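import Mathlib.RingTheory.Valuation.ValuationSubring
import Mathlib.RingTheory.AlgebraicIndependent.TranscendenceBasis
import Mathlib.RingTheory.MvPolynomial.Basic
import Mathlib.Algebra.MvPolynomial.Equiv

/-!
Twisting by a non-unit scalar moves the valuations with a given transcendental residue system around
without repetition: the algebra behind monomorphisms out of a torus being proper.
-/

set_option autoImplicit false

namespace Groth.Reductive.MonoTorus

variable {K L : Type*} [Field K] [Field L] [Algebra K L] (V : ValuationSubring L)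

/-- The polynomials with unit content take unit values at `y`. -/
def Uni {ι : Type*} (y : ι → L) : Prop :=
  ∀ p : MvPolynomial ι K, (∀ d, V.valuation (algebraMap K L (p.coeff d)) ≤ 1) →
    (∃ d, V.valuation (algebraMap K L (p.coeff d)) = 1) →
      V.valuation (MvPolynomial.aeval y p) = 1

variable {V}

theorem val_aeval {ι : Type*} {y : ι → L} (hy : Uni (K := K) V y) (p : MvPolynomial ι K) (d : ι →₀ ℕ)
    (hd : p.coeff d ≠ 0)
    (hmax : ∀ e, V.valuation (algebraMap K L (p.coeff e)) ≤ V.valuation (algebraMap K L (p.coeff d))) :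
    V.valuation (MvPolynomial.aeval y p) = V.valuation (algebraMap K L (p.coeff d)) := by
  set c := p.coeff d
  have hc : V.valuation (algebraMap K L c) ≠ 0 := by simpa using hd
  have h := hy (MvPolynomial.C c⁻¹ * p) (fun e ↦ by
    rw [MvPolynomial.coeff_C_mul, map_mul, map_mul, map_inv₀, map_inv₀]
    calc _ ≤ (V.valuation (algebraMap K L c))⁻¹ * V.valuation (algebraMap K L c) := by
          gcongr
          exact hmax e
      _ = 1 := inv_mul_cancel₀ hc) ⟨d, by
    rw [MvPolynomial.coeff_C_mul, map_mul, map_mul, map_inv₀, map_inv₀, inv_mul_cancel₀ hc]⟩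
  rw [map_mul, MvPolynomial.aeval_C, map_mul, map_inv₀, map_inv₀, inv_mul_eq_one₀ hc] at h
  exact h.symm

/-- A linearly ordered commutative group with zero has no torsion. -/
theorem eq_one_of_pow_eq {Γ : Type*} [LinearOrderedCommGroupWithZero Γ] {a : Γ} (ha : a ≠ 0) {i j : ℕ}
    (h : a ^ i = a ^ j) (hij : i ≠ j) : a = 1 := by
  wlog hle : i < j generalizing i j
  · exact this h.symm hij.symm (by omega)
  have h1 : a ^ (j - i) = 1 := by
    rw [pow_sub₀ a ha hle.le, h, mul_inv_cancel₀ (pow_ne_zero _ ha)]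
  exact (pow_eq_one_iff_of_nonneg zero_le' (by omega)).mp h1

/-- The twists of a fixed system of elements cannot keep transcendental residues infinitely often. -/
theorem false_of_twists {m : ℕ} (z : L) (hz : V.valuation z = 1) (τ : K) (hτ0 : τ ≠ 0)
    (hτ : V.valuation (algebraMap K L τ) ≠ 1) (σ : ℕ → L →ₐ[K] L)
    (hσ : ∀ n, σ n z = algebraMap K L τ ^ n * z) (x : Fin m → L) (I : Set ℕ) (hI : I.Infinite)
    (hU : ∀ n ∈ I, Uni (K := K) V (σ n ∘ x))
    (hdep : ¬AlgebraicIndependent K (Fin.cons z x : Fin (m + 1) → L)) : False := by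
  classical
  rw [algebraicIndependent_iff] at hdep
  push Not at hdep
  obtain ⟨P, hP0, hPne⟩ := hdep
  let Q : Polynomial (MvPolynomial (Fin m) K) := MvPolynomial.finSuccEquiv K m P
  have hQne : Q ≠ 0 := fun h ↦ hPne ((MvPolynomial.finSuccEquiv K m).injective (h.trans (map_zero _).symm))
  have hQ : Q.eval₂ (MvPolynomial.aeval x : MvPolynomial (Fin m) K →ₐ[K] L).toRingHom z = 0 := by
    have e : (MvPolynomial.aeval (Fin.cons z x : Fin (m + 1) → L)).toRingHom =
        (Polynomial.eval₂RingHom (MvPolynomial.aeval x : MvPolynomial (Fin m) K →ₐ[K] L).toRingHom z).comp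
          (MvPolynomial.finSuccEquiv K m).toRingEquiv.toRingHom := by
      refine MvPolynomial.ringHom_ext (fun a ↦ ?_) (fun i ↦ ?_)
      · simp [MvPolynomial.finSuccEquiv_apply]
      · refine Fin.cases ?_ (fun i ↦ ?_) i <;> simp [MvPolynomial.finSuccEquiv_apply]
    rw [← hP0]
    exact (RingHom.congr_fun e P).symm
  -- the maximal coefficients
  have hmax : ∀ j ∈ Q.support, ∃ d, (Q.coeff j).coeff d ≠ 0 ∧ ∀ e,
      V.valuation (algebraMap K L ((Q.coeff j).coeff e)) ≤
        V.valuation (algebraMap K L ((Q.coeff j).coeff d)) := fun j hj ↦ by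
    have hne : (Q.coeff j).support.Nonempty := by
      rw [Finset.nonempty_iff_ne_empty, Ne, MvPolynomial.support_eq_empty]
      exact Polynomial.mem_support_iff.mp hj
    obtain ⟨d, hd, hmax⟩ := (Q.coeff j).support.exists_max_image
      (fun e ↦ V.valuation (algebraMap K L ((Q.coeff j).coeff e))) hne
    refine ⟨d, MvPolynomial.mem_support_iff.mp hd, fun e ↦ ?_⟩
    by_cases he : e ∈ (Q.coeff j).support
    · exact hmax e he
    · rw [MvPolynomial.notMem_support_iff.mp he, map_zero, map_zero]
      exact zero_le'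
  choose! d hd0 hdmax using hmax
  let a := fun j ↦ V.valuation (algebraMap K L ((Q.coeff j).coeff (d j)))
  let T := V.valuation (algebraMap K L τ)
  have ha : ∀ j ∈ Q.support, a j ≠ 0 := fun j hj ↦ by simpa [a] using hd0 j hj
  have hT : T ≠ 0 := by simpa [T] using hτ0
  -- every twist gives two terms of equal value
  have hpair : ∀ n ∈ I, ∃ p ∈ Q.support ×ˢ Q.support, p.1 ≠ p.2 ∧
      a p.1 * (T ^ n) ^ p.1 = a p.2 * (T ^ n) ^ p.2 := by
    intro n hn
    by_contra hno
    push Not at hno
    let f : ℕ → L := fun j ↦ σ n (MvPolynomial.aeval x (Q.coeff j)) * (σ n z) ^ j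
    have hf : ∀ j ∈ Q.support, V.valuation (f j) = a j * (T ^ n) ^ j := fun j hj ↦ by
      simp only [f, map_mul, map_pow, hσ]
      rw [MvPolynomial.comp_aeval_apply, show (fun i ↦ σ n (x i)) = σ n ∘ x from rfl,
        val_aeval (hU n hn) _ (d j) (hd0 j hj) (hdmax j hj), hz, _root_.mul_one]
    have hsum : ∑ j ∈ Q.support, f j = 0 := by
      have h := congrArg (σ n) hQ
      rw [Polynomial.eval₂_eq_sum, Polynomial.sum, map_sum, map_zero] at h
      rw [← h]
      exact Finset.sum_congr rfl fun j _ ↦ by simp [f]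
    obtain ⟨j, hj, hjmax⟩ := Q.support.exists_max_image (fun i ↦ a i * (T ^ n) ^ i)
      (Polynomial.support_nonempty.mpr hQne)
    have hlt : ∀ i ∈ Q.support \ {j}, V.valuation (f i) < V.valuation (f j) := fun i hi ↦ by
      obtain ⟨hi, hne⟩ := Finset.mem_sdiff.mp hi
      rw [hf i hi, hf j hj]
      exact lt_of_le_of_ne (hjmax i hi)
        (hno (i, j) (Finset.mem_product.mpr ⟨hi, hj⟩) (fun h ↦ hne (Finset.mem_singleton.mpr h)))
    have h := V.valuation.map_sum_eq_of_lt hj hlt
    rw [hsum, map_zero, hf j hj] at h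
    exact mul_ne_zero (ha j hj) (pow_ne_zero _ (pow_ne_zero _ hT)) h.symm
  choose! p hp hne heq using hpair
  obtain ⟨n, hn, n', hn', hnn, hpp⟩ := hI.exists_ne_map_eq_of_mapsTo (f := p) (fun n hn ↦ hp n hn)
    (Finset.finite_toSet _)
  obtain ⟨hj, hl⟩ := Finset.mem_product.mp (hp n hn)
  have e1 := heq n hn
  have e2 := heq n' hn'
  rw [← hpp] at e2
  set j := (p n).1
  set l := (p n).2
  have e3 : T ^ (n * j + n' * l) = T ^ (n * l + n' * j) := by
    rw [pow_add, pow_add, pow_mul, pow_mul, pow_mul, pow_mul]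
    refine mul_left_cancel₀ (mul_ne_zero (ha j hj) (ha l hl)) ?_
    calc a j * a l * ((T ^ n) ^ j * (T ^ n') ^ l)
        = (a j * (T ^ n) ^ j) * (a l * (T ^ n') ^ l) := mul_mul_mul_comm _ _ _ _
      _ = (a l * (T ^ n) ^ l) * (a j * (T ^ n') ^ j) := by rw [e1, e2]
      _ = a j * a l * ((T ^ n) ^ l * (T ^ n') ^ j) := by rw [mul_mul_mul_comm, mul_comm (a l)]
  refine hτ (eq_one_of_pow_eq hT e3 fun h ↦ ?_)
  have h' : ((n : ℤ) - n') * ((j : ℤ) - l) = 0 := by
    have : (n : ℤ) * j + n' * l = n * l + n' * j := by exact_mod_cast h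
    linear_combination this
  rcases mul_eq_zero.mp h' with h'' | h''
  · exact hnn (by omega)
  · exact hne n hn (by omega)

/-- Algebraically independent residues give unit values to polynomials with unit content. -/
theorem uni_of_residue {R k : Type*} [CommRing R] [Field k] [Algebra R K] (r : R →+* k)
    (hr : Function.Surjective r) (hint : ∀ c : K, V.valuation (algebraMap K L c) ≤ 1 → ∃ a, algebraMap R K a = c)
    (hunit : ∀ a : R, V.valuation (algebraMap K L (algebraMap R K a)) = 1 → r a ≠ 0)
    {E : Type*} [Field E] [Algebra k E] (res : V →+* E)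
    (hres : ∀ (a : R) (h : algebraMap K L (algebraMap R K a) ∈ V), res ⟨_, h⟩ = algebraMap k E (r a))
    (hresu : ∀ w : V, res w ≠ 0 → IsUnit w) {ι : Type*} (y : ι → L) (hy : ∀ i, y i ∈ V)
    (hind : AlgebraicIndependent k fun i ↦ res ⟨y i, hy i⟩) : Uni (K := K) V y := by
  intro p hp1 ⟨d, hd⟩
  obtain ⟨q, rfl⟩ : p ∈ (MvPolynomial.map (algebraMap R K) : MvPolynomial ι R →+* _).range := by
    refine MvPolynomial.mem_range_map_iff_coeffs_subset.mpr ?_
    intro c hc
    obtain ⟨e, -, rfl⟩ := MvPolynomial.mem_coeffs_iff.mp hc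
    exact hint _ (hp1 e)
  have hR : ∀ a : R, algebraMap K L (algebraMap R K a) ∈ V ∨ ∀ e, q.coeff e ≠ a := fun a ↦ by
    by_cases h : ∃ e, q.coeff e = a
    · obtain ⟨e, rfl⟩ := h
      left
      have := hp1 e
      rw [MvPolynomial.coeff_map] at this
      exact V.mem_of_valuation_le_one _ this
    · exact Or.inr fun e he ↦ h ⟨e, he⟩
  let R' : Subring R := V.toSubring.comap ((algebraMap K L).comp (algebraMap R K))
  obtain ⟨q', rfl⟩ : q ∈ (MvPolynomial.map R'.subtype : MvPolynomial ι R' →+* _).range := by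
    refine MvPolynomial.mem_range_map_iff_coeffs_subset.mpr ?_
    intro c hc
    obtain ⟨e, -, rfl⟩ := MvPolynomial.mem_coeffs_iff.mp hc
    exact ⟨⟨_, (hR (q.coeff e)).resolve_right fun h ↦ h e rfl⟩, rfl⟩
  let g : R' →+* V := RingHom.codRestrict (((algebraMap K L).comp (algebraMap R K)).comp R'.subtype)
    V.toSubring fun a ↦ a.2
  let w : V := MvPolynomial.eval₂ g (fun i ↦ ⟨y i, hy i⟩) q'
  have hw : (w : L) = MvPolynomial.aeval y (MvPolynomial.map (algebraMap R K) (MvPolynomial.map R'.subtype q')) := by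
    rw [MvPolynomial.aeval_def, MvPolynomial.eval₂_map, MvPolynomial.eval₂_map]
    show V.subtype (MvPolynomial.eval₂ g (fun i ↦ ⟨y i, hy i⟩) q') = _
    rw [MvPolynomial.eval₂_comp_left]
    rfl
  have hne : res w ≠ 0 := by
    have hq0 : MvPolynomial.map (r.comp R'.subtype) q' ≠ 0 := fun h0 ↦ by
      rw [MvPolynomial.coeff_map, MvPolynomial.coeff_map] at hd
      refine hunit _ hd ?_
      have := congrArg (MvPolynomial.coeff d) h0
      rwa [MvPolynomial.coeff_map, MvPolynomial.coeff_zero] at this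
    have he : res w = MvPolynomial.aeval (fun i ↦ res ⟨y i, hy i⟩) (MvPolynomial.map (r.comp R'.subtype) q') := by
      rw [MvPolynomial.aeval_def, MvPolynomial.eval₂_map, MvPolynomial.eval₂_comp_left]
      congr 1
      exact RingHom.ext fun a ↦ hres a.1 a.2
    rw [he]
    exact fun h ↦ hq0 (hind.eq_zero_of_aeval_eq_zero _ h)
  rw [← hw]
  exact (V.valuation_eq_one_iff w).mp (hresu w hne)

/-- Generators of a field extension contain an algebraically independent family at least as large as
a given one. -/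
theorem exists_indep_subfamily {k E : Type*} [Field k] [Field E] [Algebra k E] {s r : ℕ} (g : Fin s → E)
    [Algebra.IsAlgebraic (Algebra.adjoin k (Set.range g)) E] (z : Fin r → E) (hz : AlgebraicIndependent k z) :
    ∃ (m : ℕ) (e : Fin m → Fin s), r ≤ m ∧ AlgebraicIndependent k (g ∘ e) := by
  classical
  obtain ⟨t, hts, ht⟩ := exists_isTranscendenceBasis_subset (R := k) (Set.range g)
  haveI : Finite t := (Set.finite_range g).subset hts
  haveI := Fintype.ofFinite t
  let c := Fintype.equivFin t
  choose e he using fun b : t ↦ hts b.2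
  refine ⟨Fintype.card t, e ∘ c.symm, ?_, ?_⟩
  · have h1 := hz.lift_cardinalMk_le_trdeg
    rw [← ht.cardinalMk_eq_trdeg] at h1
    simp [Cardinal.mk_fintype] at h1
    rwa [← Nat.card_eq_fintype_card, Nat.card_coe_set_eq]
  · have : g ∘ e ∘ c.symm = ((↑) : t → E) ∘ c.symm := funext fun i ↦ he _
    rw [this]
    exact ht.1.comp _ c.symm.injective

/-- More elements than generators are dependent. -/
theorem not_indep_of_generators {r m : ℕ} (w : Fin r → L)
    [Algebra.IsAlgebraic (Algebra.adjoin K (Set.range w)) L] (hrm : r ≤ m) (v : Fin (m + 1) → L) :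
    ¬AlgebraicIndependent K v := fun hv ↦ by
  have h1 := hv.lift_cardinalMk_le_trdeg
  have h2 : Algebra.trdeg K L ≤ Cardinal.mk (Set.range w) := Algebra.IsAlgebraic.trdeg_le_cardinalMk K (Set.range w)
  have h3 : Cardinal.mk (Set.range w) ≤ (r : Cardinal) := by
    have h4 := Cardinal.mk_range_le_lift (f := w)
    simpa [Cardinal.lift_natCast] using h4
  have h5 := Cardinal.lift_le.mpr (h2.trans h3)
  have h6 := h1.trans h5
  simp at h6
  omega

end Groth.Reductive.MonoTorus
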