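import Groth.Agent.Reductive.MonoTorus.Main
import Groth.Agent.Hopf.Cochar.MaxRank
import Groth.Agent.Reductive.CentralSubgroupDescent
import Groth.Agent.Abvar.BaseChange
import Mathlib.AlgebraicGeometry.ValuativeCriterion
import Mathlib.GroupTheory.FiniteAbelian.Basic

/-!
A monomorphism from a diagonalisable group of finite type into a separated group of finite type is a
closed immersion.
-/

set_option autoImplicit false
universe u

open CategoryTheory MonoidalCategory CartesianMonoidalCategory MonObj GrpObj AlgebraicGeometry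

noncomputable section

namespace Groth.Reductive.MonoTorus

attribute [local instance] algΓ'

open Groth.Reductive.FreeDiag

/-- A finitely generated group up to torsion of bounded order is free. -/
theorem exists_free_quotient (M : Type) [AddCommGroup M] [AddGroup.FG M] :
    ∃ (r N : ℕ) (q : M →+ (Fin r → ℤ)) (s : (Fin r → ℤ) →+ M), 0 < N ∧ Function.Surjective q ∧
      ∀ x, N • x = N • s (q x) := by
  classical
  obtain ⟨n, J, _, p, hp, k, ⟨e⟩⟩ := AddCommGroup.equiv_free_prod_directSum_zmod M
  let D := DirectSum J fun i ↦ ZMod (p i ^ k i)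
  haveI : ∀ i, NeZero (p i ^ k i) := fun i ↦ ⟨pow_ne_zero _ (hp i).ne_zero⟩
  haveI : Finite D := Finite.of_equiv _ (DirectSum.linearEquivFunOnFintype ℤ J
    (fun i ↦ ZMod (p i ^ k i))).symm.toEquiv
  let q : M →+ (Fin n → ℤ) := Finsupp.coeFnAddHom.comp ((AddMonoidHom.fst _ _).comp e.toAddMonoidHom)
  let s : (Fin n → ℤ) →+ M := e.symm.toAddMonoidHom.comp ((AddMonoidHom.inl _ _).comp
    (Finsupp.linearEquivFunOnFinite ℤ ℤ (Fin n)).symm.toAddEquiv.toAddMonoidHom)
  have hqs : ∀ y, q (s y) = y := fun y ↦ by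
    simp [q, s]
    exact funext fun i ↦ rfl
  refine ⟨n, Nat.card D, q, s, Nat.card_pos, fun y ↦ ⟨s y, hqs y⟩, fun x ↦ ?_⟩
  rw [← sub_eq_zero, ← smul_sub]
  apply e.injective
  rw [map_nsmul, map_sub, map_zero]
  refine Prod.ext ?_ card_nsmul_eq_zero'
  have h : (e (s (q x))).1 = (e x).1 := by
    simp [q, s]
    exact Finsupp.ext fun i ↦ rfl
  simp [h]

variable {R : Type u} [CommRing R] [IsDomain R] [ValuationRing R] {K : Type u} [Field K] [Algebra R K]
  [IsFractionRing R K]

/-- An element with a unit power is integral. -/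
theorem exists_of_pow {N : ℕ} (hN : 0 < N) (x : K) (h : ∃ a : Rˣ, algebraMap R K a = x ^ N) :
    ∃ b : R, algebraMap R K b = x := by
  rcases ValuationRing.isInteger_or_isInteger R x with hx | ⟨b, hb⟩
  · exact hx
  obtain ⟨a, ha⟩ := h
  by_cases hx : x = 0
  · exact ⟨0, by rw [map_zero, hx]⟩
  have h1 : IsUnit (b ^ N) := by
    refine IsUnit.of_mul_eq_one (a : R) (IsFractionRing.injective R K ?_)
    rw [map_mul, map_pow, hb, ha, inv_pow, inv_mul_cancel₀ (pow_ne_zero _ hx), map_one]
  have hu := (isUnit_pow_iff hN.ne').mp h1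
  refine ⟨(hu.unit⁻¹ : Rˣ), ?_⟩
  rw [← inv_inv x, ← hb, map_units_inv]
  rfl

/-- Over a valuation ring, the point extends. -/
theorem exists_extension {G : Over (Spec (CommRingCat.of R))} [GrpObj G] [LocallyOfFiniteType G.hom]
    [QuasiCompact G.hom] {M : Type} [AddCommGroup M] [AddGroup.FG M]
    (u : Red.DS (Spec (CommRingCat.of R)) M ⟶ G) [IsMonHom u] [Mono u.left]
    (t : Multiplicative M →* K) (g : PA (RingHom.id R) ⟶ G)
    (hg : gPt g (algebraMap R K) = ptD (algebraMap R K) t ≫ u) :
    ∃ χ : Multiplicative M →* R, (algebraMap R K).toMonoidHom.comp χ = t := by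
  classical
  obtain ⟨r, N, q, s, hN, hq, hNs⟩ := exists_free_quotient M
  have htN : ∀ m : Multiplicative M, t (Multiplicative.ofAdd (s (q m.toAdd))) ^ N = t m ^ N := fun m ↦
    (map_pow t _ N).symm.trans ((congrArg t (congrArg Multiplicative.ofAdd (hNs m.toAdd)).symm).trans
      (map_pow t m N))
  let i := dsHom (T := Spec (CommRingCat.of R)) q
  haveI : Mono i.left := mono_dsHom q hq
  haveI : IsMonHom (i ≫ u) := inferInstance
  haveI : Mono (i ≫ u).left := by rw [Over.comp_left]; infer_instance
  let t' : Multiplicative (Fin r → ℤ) →* K := (t.comp (AddMonoidHom.toMultiplicative s)) ^ N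
  let g' : PA (RingHom.id R) ⟶ G := g ^ N
  have hg' : gPt g' (algebraMap R K) = ptD (algebraMap R K) t' ≫ i ≫ u := by
    show pMap _ _ ≫ (g ^ N) = _
    rw [MonObj.comp_pow]
    show gPt g (algebraMap R K) ^ N = _
    rw [hg, ← Category.assoc]
    refine (MonObj.pow_comp _ N u).symm.trans (congrArg (· ≫ u) ?_)
    rw [← ptD_pow]
    refine dsVal_ext fun m ↦ (pΓ (algebraMap R K)).injective ?_
    rw [dsVal_dsHom, pΓ_dsVal_ptD, pΓ_dsVal_ptD]
    exact (htN m).symm
  have hsub : ∀ x : Multiplicative (Fin r → ℤ), ∃ a : Rˣ, algebraMap R K a = t' x := by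
    intro x
    choose a ha using isUnit_of_extends (i ≫ u) t' g' hg'
    refine ⟨∏ j, a j ^ (Multiplicative.toAdd x j), ?_⟩
    conv_rhs => rw [eq_prod_basisChar x, map_prod]
    rw [Units.coe_prod, map_prod]
    refine Finset.prod_congr rfl fun j _ ↦ ?_
    rw [map_zpow, ← ha j]
    exact map_zpow ((Units.coeHom K).comp (Units.map (algebraMap R K).toMonoidHom)) (a j) _
  have hint : ∀ m, ∃ b : R, algebraMap R K b = t m := fun m ↦ by
    obtain ⟨a, ha⟩ := hsub (Multiplicative.ofAdd (q m.toAdd))
    refine exists_of_pow hN _ ⟨a, ha.trans ?_⟩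
    exact htN m
  choose b hb using hint
  refine ⟨{ toFun := b
            map_one' := IsFractionRing.injective R K (by rw [hb, map_one, map_one])
            map_mul' := fun m m' ↦ IsFractionRing.injective R K (by rw [hb, map_mul, map_mul, hb, hb]) },
    MonoidHom.ext hb⟩

omit [IsDomain R] [ValuationRing R] [IsFractionRing R K]

variable {S : Scheme.{u}} {G : Over S} [GrpObj G]

/-- **Monomorphisms out of diagonalisable groups of finite type are closed immersions.** -/
theorem isClosedImmersion_of_mono_DS [IsSeparated G.hom] [LocallyOfFiniteType G.hom] [QuasiCompact G.hom]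
    {M : Type} [AddCommGroup M] (hM : AddGroup.FG M) (u : Red.DS S M ⟶ G) [IsMonHom u] [Mono u] :
    IsClosedImmersion u.left := by
  haveI := hM
  let H := Red.DS S M
  obtain ⟨_, _, _⟩ := Groth.Cochar.props (isMultTypeFT_DS (T := S) hM)
  haveI : QuasiCompact u.left := by
    haveI : QuasiCompact (u.left ≫ G.hom) := by rw [Over.w u]; infer_instance
    exact QuasiCompact.of_comp u.left G.hom
  haveI : LocallyOfFiniteType u.left := by
    haveI : LocallyOfFiniteType (u.left ≫ G.hom) := by rw [Over.w u]; infer_instance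
    exact locallyOfFiniteType_of_comp u.left G.hom
  haveI : UniversallyClosed u.left := by
    refine UniversallyClosed.of_valuativeCriterion u.left fun sq ↦ ?_
    obtain ⟨R, K, i₁, i₂, ⟨hsq⟩⟩ := sq
    let p : Spec (CommRingCat.of R) ⟶ S := i₂ ≫ G.hom
    let e := Groth.Cochar.bcDS p M
    let u' : Red.DS (Spec (CommRingCat.of R)) M ⟶ Red.bc p G := e.hom ≫ (Over.pullback p).map u
    haveI : IsMonHom u' := Groth.Abvar.isMonHom_comp inferInstance (Groth.Abvar.isMonHom_map u)
    haveI : Mono u' := inferInstance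
    haveI : Mono u'.left := inferInstance
    haveI : IsSeparated (Red.bc p G).hom := MorphismProperty.pullback_snd _ _ ‹_›
    haveI : LocallyOfFiniteType (Red.bc p G).hom := MorphismProperty.pullback_snd _ _ ‹_›
    haveI : QuasiCompact (Red.bc p G).hom := MorphismProperty.pullback_snd _ _ ‹_›
    let X := PA (algebraMap R K)
    let x : (Over.map p).obj X ⟶ H := Over.homMk i₁ (by
      show i₁ ≫ H.hom = Spec.map _ ≫ i₂ ≫ G.hom
      rw [← Over.w u, reassoc_of% hsq])
    let t' := (bcPointEquiv p H X).symm x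
    have ht' : t'.left ≫ Limits.pullback.fst H.hom p = i₁ := by
      rw [← qPt_left]
      exact congrArg (fun z ↦ z.left) ((bcPointEquiv p H X).apply_symm_apply x)
    let t := chiOf (t' ≫ e.inv)
    let g : PA (RingHom.id R) ⟶ Red.bc p G :=
      Over.homMk (Limits.pullback.lift i₂ (𝟙 _) (Category.id_comp _).symm) (by
        show Limits.pullback.lift _ _ _ ≫ Limits.pullback.snd _ _ = Spec.map (CommRingCat.ofHom (RingHom.id R))
        rw [Limits.pullback.lift_snd, CommRingCat.ofHom_id, Spec.map_id]
        rfl)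
    have hu' : ptD (algebraMap R K) t ≫ u' = t' ≫ (Over.pullback p).map u := by
      rw [ptD_chiOf, Category.assoc]
      show t' ≫ e.inv ≫ e.hom ≫ _ = _
      rw [Iso.inv_hom_id_assoc]
    have hfst : ((Over.pullback p).map u).left ≫ Limits.pullback.fst G.hom p =
        Limits.pullback.fst H.hom p ≫ u.left := Limits.pullback.lift_fst _ _ _
    have hg : gPt g (algebraMap R K) = ptD (algebraMap R K) t ≫ u' := by
      rw [hu']
      refine Over.OverMorphism.ext (Limits.pullback.hom_ext ?_ ?_)
      · show (Spec.map _ ≫ Limits.pullback.lift _ _ _) ≫ _ = (t'.left ≫ _) ≫ _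
        rw [Category.assoc, Category.assoc, Limits.pullback.lift_fst, hfst, reassoc_of% ht', hsq]
      · exact (Over.w (gPt g (algebraMap R K))).trans (Over.w (t' ≫ (Over.pullback p).map u)).symm
    obtain ⟨χ, hχ⟩ := exists_extension u' t g hg
    let h := ptD (RingHom.id R) χ
    have hh : pMap (algebraMap R K) (RingHom.comp_id _) ≫ h = t' ≫ e.inv := by
      rw [pMap_ptD, hχ, ptD_chiOf]
    have hhg : h ≫ u' = g := by
      refine Over.OverMorphism.ext ?_
      let j : X.left ⟶ (PA (RingHom.id R)).left := Spec.map (CommRingCat.ofHom (algebraMap R K))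
      haveI : IsDominant j := ⟨(PrimeSpectrum.denseRange_comap_iff_ker_le_nilRadical _).2 (by
        rw [CommRingCat.hom_ofHom, (RingHom.injective_iff_ker_eq_bot _).1 (IsFractionRing.injective R K)]
        exact bot_le)⟩
      haveI : IsReduced (PA (RingHom.id R)).left := inferInstanceAs (IsReduced (Spec (CommRingCat.of R)))
      refine ext_of_isDominant_of_isSeparated (Red.bc p G).hom ((Over.w (h ≫ u')).trans (Over.w g).symm) j ?_
      have := congrArg (fun z : X ⟶ Red.bc p G ↦ z.left)
        (((Category.assoc _ _ _).symm.trans (congrArg (· ≫ u') hh)).trans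
          (((congrArg (· ≫ u') (ptD_chiOf (t' ≫ e.inv))).symm).trans hg.symm))
      exact this
    refine ⟨⟨⟨h.left ≫ e.hom.left ≫ Limits.pullback.fst H.hom p, ?_, ?_⟩⟩⟩
    · have h1 := congrArg (fun z : X ⟶ Red.bc p H ↦ z.left ≫ Limits.pullback.fst H.hom p)
        (congrArg (· ≫ e.hom) hh)
      simp only [Over.comp_left, Category.assoc] at h1
      refine (h1 : Spec.map (CommRingCat.ofHom (algebraMap R K)) ≫ _ = _).trans ?_
      have he : e.inv.left ≫ e.hom.left = 𝟙 _ := congrArg (fun z ↦ z.left) e.inv_hom_id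
      rw [reassoc_of% he, ht']
    · have h1 := congrArg (fun z : PA (RingHom.id R) ⟶ Red.bc p G ↦ z.left ≫ Limits.pullback.fst G.hom p) hhg
      simp only [u', Over.comp_left, Category.assoc, hfst] at h1
      rw [Category.assoc, Category.assoc, h1]
      exact Limits.pullback.lift_fst _ _ _
  haveI : IsSeparated u.left := inferInstance
  rw [IsClosedImmersion.iff_isProper_and_mono]
  exact ⟨{ }, inferInstance⟩

end Groth.Reductive.MonoTorus
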