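import Groth.Agent.Reductive.MonoTorus.KerEq
import Mathlib.AlgebraicGeometry.AffineTransitionLimit

/-!
`D(Γ)` is the limit of the `D(Λ)`, `Λ ⊆ Γ` finitely generated: homomorphisms to groups locally of
finite presentation factor through a finite stage over an affine base.
-/

set_option autoImplicit false
universe u

open CategoryTheory CategoryTheory.Limits MonoidalCategory CartesianMonoidalCategory MonObj GrpObj AlgebraicGeometry
open Opposite

noncomputable section

namespace Groth.Reductive.MonoTorus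

open Groth.Reductive.FreeDiag Groth.Cochar

variable (Γ₀ : Type) [AddCommGroup Γ₀]

/-- The finitely generated subgroups. -/
abbrev FGSubs : Type u := ULift.{u} {Λ : AddSubgroup Γ₀ // Λ.FG}

instance : SemilatticeSup {Λ : AddSubgroup Γ₀ // Λ.FG} :=
  Subtype.semilatticeSup fun _ _ h h' => h.sup h'

instance : Preorder (FGSubs.{u} Γ₀) := Preorder.lift ULift.down

instance : Nonempty (FGSubs.{u} Γ₀) := ⟨⟨⟨⊥, AddSubgroup.FG.bot⟩⟩⟩

instance : IsDirectedOrder (FGSubs.{u} Γ₀) :=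
  ⟨fun a b => ⟨⟨a.down ⊔ b.down⟩, (le_sup_left : a.down ≤ a.down ⊔ b.down),
    (le_sup_right : b.down ≤ a.down ⊔ b.down)⟩⟩

variable {Γ₀} (T : Scheme.{u})

/-- The inclusion of one stage in another. -/
abbrev incl {a b : FGSubs.{u} Γ₀} (h : a ≤ b) : a.down.1 →+ b.down.1 := AddSubgroup.inclusion h

/-- The diagram of the `D(Λ)`. -/
def stageFunctor : (FGSubs.{u} Γ₀)ᵒᵖ ⥤ Scheme.{u} where
  obj a := (Red.DS T a.unop.down.1).left
  map h := (dsHom (T := T) (incl (leOfHom h.unop))).left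
  map_id a := congrArg (fun m => m.left) (dsHom_id (T := T) (M := a.unop.down.1))
  map_comp f g := by
    rw [← Over.comp_left, dsHom_comp]
    rfl

/-- The structure morphisms. -/
def stageStr : stageFunctor (Γ₀ := Γ₀) T ⟶ (Functor.const _).obj T where
  app a := (Red.DS T a.unop.down.1).hom
  naturality a b f := by
    exact (Over.w (dsHom (T := T) (incl (leOfHom f.unop)))).trans (Category.comp_id _).symm

/-- The cone with tip `D(Γ)`. -/
def stageCone : Cone (stageFunctor (Γ₀ := Γ₀) T) where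
  pt := (Red.DS T Γ₀).left
  π :=
    { app := fun a => (dsHom (T := T) a.unop.down.1.subtype).left
      naturality := fun a b f => by
        show 𝟙 _ ≫ (dsHom (T := T) b.unop.down.1.subtype).left =
          (dsHom (T := T) a.unop.down.1.subtype).left ≫ (dsHom (T := T) (incl (leOfHom f.unop))).left
        rw [Category.id_comp, ← Over.comp_left, dsHom_comp]
        rfl }

section Lift

variable {T} (s : Cone (stageFunctor (Γ₀ := Γ₀) T))

/-- The structure morphism of a cone. -/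
def coneOver : Over T :=
  Over.mk (s.π.app (op ⟨⟨⊥, AddSubgroup.FG.bot⟩⟩) ≫ (stageStr T).app _)

theorem cone_str (a : (FGSubs.{u} Γ₀)ᵒᵖ) : s.π.app a ≫ (stageStr T).app a = (coneOver s).hom := by
  have key : ∀ (a b : (FGSubs.{u} Γ₀)ᵒᵖ) (f : a ⟶ b),
      s.π.app b ≫ (stageStr T).app b = s.π.app a ≫ (stageStr T).app a := fun a b f => by
    rw [← s.w f, Category.assoc, (stageStr T).naturality f, Functor.const_obj_map]
    exact congrArg (s.π.app a ≫ ·) (Category.comp_id _)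
  exact (key a (op ⟨⟨⊥, AddSubgroup.FG.bot⟩⟩) (opHomOfLE (show (⊥ : AddSubgroup Γ₀) ≤ a.unop.down.1 from bot_le))).symm

/-- The points of the stages. -/
def conePt (a : (FGSubs.{u} Γ₀)ᵒᵖ) : coneOver s ⟶ Red.DS T a.unop.down.1 :=
  Over.homMk (s.π.app a) (cone_str s a)

theorem conePt_comp {a b : (FGSubs.{u} Γ₀)ᵒᵖ} (f : a ⟶ b) :
    conePt s a ≫ dsHom (incl (leOfHom f.unop)) = conePt s b :=
  Over.OverMorphism.ext (s.w f)

/-- The stage generated by one element. -/
def single (gm : Γ₀) : (FGSubs.{u} Γ₀)ᵒᵖ :=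
  op ⟨⟨AddSubgroup.closure {gm}, ⟨{gm}, by simp⟩⟩⟩

/-- The character of the point of `D(Γ)`. -/
def coneVal (gm : Multiplicative Γ₀) : Γ((coneOver s).left, ⊤) :=
  dsVal (conePt s (single gm.toAdd))
    (Multiplicative.ofAdd ⟨gm.toAdd, AddSubgroup.subset_closure rfl⟩)

theorem coneVal_eq (a : (FGSubs.{u} Γ₀)ᵒᵖ) (gm : Multiplicative Γ₀) (h : gm.toAdd ∈ a.unop.down.1) :
    coneVal s gm = dsVal (conePt s a) (Multiplicative.ofAdd ⟨gm.toAdd, h⟩) := by
  have f : a ⟶ single gm.toAdd := opHomOfLE (show AddSubgroup.closure {gm.toAdd} ≤ a.unop.down.1 from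
    (AddSubgroup.closure_le _).mpr (Set.singleton_subset_iff.mpr h))
  rw [coneVal, ← conePt_comp s f, dsVal_dsHom]
  rfl

/-- The characters of the point of `D(Γ)`. -/
def coneChar : Multiplicative Γ₀ →* Γ((coneOver s).left, ⊤) where
  toFun := coneVal s
  map_one' := by
    rw [coneVal_eq s (op ⟨⟨⊥, AddSubgroup.FG.bot⟩⟩) 1 (zero_mem _)]
    exact map_one (dsValHom (conePt s (op ⟨⟨⊥, AddSubgroup.FG.bot⟩⟩)))
  map_mul' gm dl := by
    let a : (FGSubs.{u} Γ₀)ᵒᵖ := op ⟨⟨AddSubgroup.closure {gm.toAdd, dl.toAdd},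
      AddSubgroup.fg_iff _ |>.mpr ⟨_, rfl, Set.toFinite _⟩⟩⟩
    have hgm : gm.toAdd ∈ a.unop.down.1 := AddSubgroup.subset_closure (Set.mem_insert _ _)
    have hdl : dl.toAdd ∈ a.unop.down.1 := AddSubgroup.subset_closure (Set.mem_insert_of_mem _ rfl)
    rw [coneVal_eq s a gm hgm, coneVal_eq s a dl hdl, coneVal_eq s a (gm * dl) (add_mem hgm hdl)]
    exact map_mul (dsValHom (conePt s a)) (Multiplicative.ofAdd ⟨gm.toAdd, hgm⟩) (Multiplicative.ofAdd ⟨dl.toAdd, hdl⟩)

/-- The point of `D(Γ)`. -/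
def coneLift : coneOver s ⟶ Red.DS T Γ₀ := dsMk (coneOver s) (coneChar s)

theorem coneLift_comp (a : (FGSubs.{u} Γ₀)ᵒᵖ) : coneLift s ≫ dsHom a.unop.down.1.subtype = conePt s a :=
  dsVal_ext fun m => by
    rw [dsVal_dsHom, coneLift, dsVal_dsMk]
    exact coneVal_eq s a _ m.toAdd.2

theorem coneLift_unique (x : coneOver s ⟶ Red.DS T Γ₀)
    (h : ∀ a : (FGSubs.{u} Γ₀)ᵒᵖ, x ≫ dsHom a.unop.down.1.subtype = conePt s a) : x = coneLift s :=
  dsVal_ext fun gm => by
    rw [coneLift, dsVal_dsMk, show coneChar s gm = coneVal s gm from rfl, coneVal, ← h, dsVal_dsHom]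
    rfl

end Lift

/-- `D(Γ)` is the limit of the `D(Λ)`. -/
def isLimitStageCone : IsLimit (stageCone (Γ₀ := Γ₀) T) where
  lift s := (coneLift s).left
  fac s a := congrArg (fun m => m.left) (coneLift_comp s a)
  uniq s m hm := by
    let a₀ : (FGSubs.{u} Γ₀)ᵒᵖ := op ⟨⟨⊥, AddSubgroup.FG.bot⟩⟩
    let x : coneOver s ⟶ Red.DS T Γ₀ := Over.homMk m (by
      show m ≫ _ = s.π.app a₀ ≫ (Red.DS T a₀.unop.down.1).hom
      rw [← hm a₀]
      show _ = (m ≫ (dsHom (T := T) a₀.unop.down.1.subtype).left) ≫ _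
      rw [Category.assoc]
      exact congrArg (m ≫ ·) (Over.w (dsHom (T := T) a₀.unop.down.1.subtype)).symm)
    exact congrArg (fun m => m.left) (coneLift_unique s x fun a => Over.OverMorphism.ext (hm a))

/-- A homomorphism from `D(Γ)` to a group locally of finite presentation factors through some `D(Λ)`. -/
theorem exists_fg_factor [IsAffine T] {G : Over T} [GrpObj G] [LocallyOfFinitePresentation G.hom]
    (f : Red.DS T Γ₀ ⟶ G) [IsMonHom f] :
    ∃ (Λ : AddSubgroup Γ₀) (_ : Λ.FG) (f₀ : Red.DS T Λ ⟶ G), IsMonHom f₀ ∧ dsHom Λ.subtype ≫ f₀ = f := by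
  haveI haff : ∀ a, IsAffine ((stageFunctor (Γ₀ := Γ₀) T).obj a) := fun a =>
    @isAffine_of_isAffineHom _ _ (Red.DS T a.unop.down.1).hom (isAffineHom_DS _) inferInstance
  haveI : ∀ {a b : (FGSubs.{u} Γ₀)ᵒᵖ} (h : a ⟶ b), IsAffineHom ((stageFunctor (Γ₀ := Γ₀) T).map h) :=
    fun h => inferInstance
  obtain ⟨a, g, hg, hg'⟩ := Scheme.exists_π_app_comp_eq_of_locallyOfFinitePresentation
    (D := stageFunctor (Γ₀ := Γ₀) T) (t := stageStr T) (f := G.hom) (c := stageCone T)
    (hc := isLimitStageCone T) f.left (by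
      ext a
      show (dsHom (T := T) a.unop.down.1.subtype).left ≫ (Red.DS T a.unop.down.1).hom = f.left ≫ G.hom
      rw [Over.w f, Over.w (dsHom (T := T) a.unop.down.1.subtype)])
  let f₀ : Red.DS T a.unop.down.1 ⟶ G := Over.homMk g hg'
  obtain ⟨hqf, hqs⟩ := flat_surjective_dsHom (T := T) a.unop.down.1.subtype
    a.unop.down.1.subtype_injective
  haveI : Flat (dsHom (T := T) a.unop.down.1.subtype).left := hqf
  haveI : Surjective (dsHom (T := T) a.unop.down.1.subtype).left := hqs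
  have h : dsHom a.unop.down.1.subtype ≫ f₀ = f := Over.OverMorphism.ext hg
  exact ⟨a.unop.down.1, a.unop.down.2, f₀, isMonHom_of_flat _ f₀ f h, h⟩

end Groth.Reductive.MonoTorus
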