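import Groth.Agent.Reductive.MonoTorus.FGFactor

/-!
Images of homomorphisms out of diagonalisable groups of arbitrary type.
-/

set_option autoImplicit false
universe u

open CategoryTheory MonoidalCategory CartesianMonoidalCategory MonObj GrpObj AlgebraicGeometry

noncomputable section

namespace Groth.Reductive.MonoTorus

open Groth.Reductive.FreeDiag Groth.Cochar

variable {S : Scheme.{u}} {N : Type} [AddCommGroup N] {G : Over S} [GrpObj G]

theorem kerEq_image {U : Scheme.{u}} (j : U ⟶ S) [IsOpenImmersion j] (W : U.Opens) {f : Red.DS S N ⟶ G}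
    {Λ : AddSubgroup N} (h : KerEq f Λ (Over.mk (W.ι ≫ j))) : KerEq f Λ (Over.mk (j ''ᵁ W).ι) := by
  refine h.of_hom (Over.homMk (IsOpenImmersion.lift (W.ι ≫ j) (j ''ᵁ W).ι ?_)
    (IsOpenImmersion.lift_fac _ _ _))
  rintro _ ⟨v, rfl⟩
  obtain ⟨v', hv', e⟩ := v.2
  exact ⟨⟨v', hv'⟩, e⟩

variable [IsSeparated G.hom] [LocallyOfFinitePresentation G.hom] (f : Red.DS S N ⟶ G) [IsMonHom f]

/-- Near every point the kernel is cut out by a finitely generated group of characters. -/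
theorem exists_kerEq_nhd (s : S) :
    ∃ (Λ : AddSubgroup N) (U : S.Opens), Λ.FG ∧ s ∈ U ∧ KerEq f Λ (Over.mk U.ι) := by
  obtain ⟨V, hV, hsV, -⟩ := exists_isAffineOpen_mem_and_subset (U := (⊤ : S.Opens)) (x := s) trivial
  haveI : IsAffine (V : Scheme.{u}) := hV
  let f' : Red.DS (V : Scheme.{u}) N ⟶ Red.bc V.ι G := (bcDS V.ι N).hom ≫ (Over.pullback V.ι).map f
  haveI : IsMonHom f' := Groth.Abvar.isMonHom_comp inferInstance (Groth.Abvar.isMonHom_map f)
  haveI : IsSeparated (Red.bc V.ι G).hom := MorphismProperty.pullback_snd _ _ ‹_›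
  haveI : LocallyOfFinitePresentation (Red.bc V.ι G).hom := MorphismProperty.pullback_snd _ _ ‹_›
  obtain ⟨Γ₀, hΓ₀, f₀, _, hf₀⟩ := exists_fg_factor (T := (V : Scheme.{u})) f'
  obtain ⟨Λ₀, W, hΛ₀, hsW, hW⟩ :=
    exists_kerEq_open ((AddGroup.fg_iff_addSubgroup_fg Γ₀).mpr hΓ₀) f₀ ⟨s, hsV⟩
  refine ⟨Λ₀.map Γ₀.subtype, V.ι ''ᵁ W, (AddSubgroup.fg_iff _).mpr ?_, ⟨⟨s, hsV⟩, hsW, rfl⟩, kerEq_image V.ι W ?_⟩
  · obtain ⟨F, hF⟩ := hΛ₀
    exact ⟨Γ₀.subtype '' F, by rw [← AddMonoidHom.map_closure, hF], F.finite_toSet.image _⟩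
  exact (kerEq_bc_iff V.ι W.ι).mpr (hW.comp Γ₀.subtype hf₀)

/-- The kernel is cut out by one finitely generated group of characters on a clopen neighbourhood. -/
theorem exists_kerEq_clopen (s : S) :
    ∃ (Λ : AddSubgroup N) (U : S.Opens), Λ.FG ∧ s ∈ U ∧ IsClosed (U : Set S) ∧
      KerEq f Λ (Over.mk U.ι) := by
  obtain ⟨Λ, U₀, hΛ, hsU₀, hU₀⟩ := exists_kerEq_nhd f s
  let C := {U : S.Opens | KerEq f Λ (Over.mk U.ι)}
  let U : S.Opens := sSup C
  have hle : ∀ W ∈ C, W ≤ U := fun W hW => le_sSup hW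
  have hK : KerEq f Λ (Over.mk U.ι) := by
    choose W hW hxW using fun z : (U : Scheme.{u}) => TopologicalSpace.Opens.mem_sSup.mp z.2
    refine KerEq.of_openCover (fun z => U.ι ⁻¹ᵁ W z) hxW fun z => ?_
    refine KerEq.of_hom (hW z) (Over.homMk (U.ι ∣_ W z) ?_)
    exact morphismRestrict_ι _ _
  refine ⟨Λ, U, hΛ, hle _ hU₀ hsU₀, isOpen_compl_iff.mp (isOpen_iff_forall_mem_open.mpr fun x hx => ?_), hK⟩
  obtain ⟨Λ', U', -, hxU', hU'⟩ := exists_kerEq_nhd f x
  refine ⟨U', fun v hv hvU => hx ?_, U'.isOpen, hxU'⟩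
  have hpt : ∀ (W : S.Opens), v ∈ W → Nonempty (Over.mk (S.fromSpecResidueField v) ⟶ Over.mk W.ι) :=
    fun W hvW => ⟨Over.homMk (IsOpenImmersion.lift W.ι (S.fromSpecResidueField v) (by
      rw [Scheme.range_fromSpecResidueField, Scheme.Opens.range_ι]
      exact Set.singleton_subset_iff.mpr hvW)) (IsOpenImmersion.lift_fac _ _ _)⟩
  obtain ⟨a⟩ := hpt U hvU
  obtain ⟨a'⟩ := hpt U' hv
  have e := kerEq_unique_iff (S.fromSpecResidueField v) (hK.of_hom a) (hU'.of_hom a')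
  subst e
  exact hle _ hU' hxU'

/-- Base change commutes with the restriction of characters. -/
theorem bcDS_dsHom {T : Scheme.{u}} (g : T ⟶ S) {M : Type} [AddCommGroup M] (a : M →+ N) :
    (bcDS g N).hom ≫ (Over.pullback g).map (dsHom a) = dsHom a ≫ (bcDS g M).hom := by
  apply (bcPointEquiv g (Red.DS S M) _).injective
  rw [← Category.id_comp ((bcDS g N).hom ≫ _), bcPointEquiv_bcDS_map, comp_bcDS, MulEquiv.apply_symm_apply,
    dsPtEquiv_dsHom, Category.id_comp]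

/-- The restriction to a clopen neighbourhood factors as a projection followed by a closed immersion. -/
theorem exists_closed_factor_nhd [QuasiCompact G.hom] (s : S) :
    ∃ U : S.Opens, s ∈ U ∧ IsClosed (U : Set S) ∧ ∃ Λ : AddSubgroup N, Λ.FG ∧
      ∃ c : Red.DS (U : Scheme.{u}) Λ ⟶ Red.bc U.ι G, IsMonHom c ∧ IsClosedImmersion c.left ∧
        dsHom Λ.subtype ≫ c = (bcDS U.ι N).hom ≫ (Over.pullback U.ι).map f := by
  obtain ⟨Λ, U, hΛ, hsU, hUc, hU⟩ := exists_kerEq_clopen f s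
  haveI : IsMonHom ((bcDS U.ι N).hom ≫ (Over.pullback U.ι).map f) :=
    Groth.Abvar.isMonHom_comp inferInstance (Groth.Abvar.isMonHom_map f)
  haveI : IsSeparated (Red.bc U.ι G).hom := MorphismProperty.pullback_snd _ _ ‹_›
  haveI : LocallyOfFiniteType (Red.bc U.ι G).hom := MorphismProperty.pullback_snd _ _ inferInstance
  haveI : QuasiCompact (Red.bc U.ι G).hom := MorphismProperty.pullback_snd _ _ ‹_›
  have hU' : KerEq f Λ (Over.mk (𝟙 (U : Scheme.{u}) ≫ U.ι)) := by rwa [Category.id_comp]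
  exact ⟨U, hsU, hUc, Λ, hΛ, exists_closed_factor hΛ fun W =>
    ((kerEq_bc_iff U.ι (𝟙 _)).mp hU').of_hom (Over.homMk W.hom (Category.comp_id _))⟩

end Groth.Reductive.MonoTorus
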