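import Groth.Agent.Reductive.MonoTorus.Image
import Groth.Agent.Hopf.Cochar.ImageGrp
import Groth.Agent.Reductive.MTLocTriv
import Groth.Prelude.Def_TwC

/-!
Images of homomorphisms out of groups of multiplicative type of arbitrary type.
-/

set_option autoImplicit false
universe u

open CategoryTheory MonoidalCategory CartesianMonoidalCategory MonObj GrpObj AlgebraicGeometry

noncomputable section

namespace Groth.Reductive.MonoTorus

open Groth.Reductive.FreeDiag Groth.Cochar Groth.Cochar.Img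

variable {S : Scheme.{u}}

/-- The groups of multiplicative type of arbitrary type. -/
def IsMT (H : Over S) [GrpObj H] : Prop :=
  TwC.Locally S TwC.Topology.fpqc (fun S' g => ∃ (M : Type) (_ : AddCommGroup M),
    Nonempty (Grp.mk (Red.bc g H) ≅ Grp.mk (Red.DS S' M)))

theorem fq_dsHom {M N : Type} [AddCommGroup M] [AddCommGroup N] (a : M →+ N) (ha : Function.Injective a) :
    FQ (dsHom (T := S) a).left := by
  obtain ⟨hf, hs⟩ := flat_surjective_dsHom (T := S) a ha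
  haveI := isAffineHom_DS (S := S) N
  haveI := isAffineHom_DS (S := S) M
  haveI : QuasiCompact ((dsHom (T := S) a).left ≫ (Red.DS S M).hom) := by rw [Over.w]; infer_instance
  exact ⟨hf, hs, QuasiCompact.of_comp (dsHom (T := S) a).left (Red.DS S M).hom⟩

variable {H G : Over S} [GrpObj H] [GrpObj G] [IsSeparated G.hom] [QuasiCompact G.hom]
  [LocallyOfFinitePresentation G.hom] (f : H ⟶ G) [IsMonHom f]

theorem quasiCompact_hom (hH : IsMT H) : QuasiCompact H.hom := by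
  haveI := (Groth.Reductive.MTInt.locTriv_of_locally hH).1
  infer_instance

theorem quasiCompact_left (hH : IsMT H) : QuasiCompact f.left := by
  haveI := quasiCompact_hom hH
  haveI : QuasiCompact (f.left ≫ G.hom) := by rw [Over.w f]; infer_instance
  exact QuasiCompact.of_comp f.left G.hom

/-- A local factorisation of `f` through a diagonalisable closed subgroup, near a point of a chart. -/
theorem exists_factor_chart {V : Scheme.{u}} (j₁ : V ⟶ S) {M : Type} [AddCommGroup M]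
    (e : Red.DS V M ≅ Red.bc j₁ H) [IsMonHom e.hom] (v : V) :
    ∃ W : V.Opens, v ∈ W ∧ ∃ Λ : AddSubgroup M, Λ.FG ∧
      ∃ (d : (Over.pullback (W.ι ≫ j₁)).obj H ⟶ Red.DS (W : Scheme.{u}) Λ)
        (c : Red.DS (W : Scheme.{u}) Λ ⟶ Red.bc (W.ι ≫ j₁) G),
        IsMonHom c ∧ FQ d.left ∧ IsClosedImmersion c.left ∧ d ≫ c = (Over.pullback (W.ι ≫ j₁)).map f := by
  let f' : Red.DS V M ⟶ Red.bc j₁ G := e.hom ≫ (Over.pullback j₁).map f
  haveI : IsMonHom f' := Groth.Abvar.isMonHom_comp ‹_› (Groth.Abvar.isMonHom_map f)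
  haveI : IsSeparated (Red.bc j₁ G).hom := MorphismProperty.pullback_snd _ _ ‹_›
  haveI : LocallyOfFinitePresentation (Red.bc j₁ G).hom := MorphismProperty.pullback_snd _ _ ‹_›
  haveI : QuasiCompact (Red.bc j₁ G).hom := MorphismProperty.pullback_snd _ _ ‹_›
  obtain ⟨W, hvW, -, Λ, hΛ, c, hcm, hcl, hc⟩ := exists_closed_factor_nhd f' v
  let α := Over.pullbackComp W.ι j₁
  haveI : IsIso (α.inv.app G).left := inferInstanceAs (IsIso ((Over.forget _).map (α.inv.app G)))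
  refine ⟨W, hvW, Λ, hΛ,
    α.hom.app H ≫ (Over.pullback W.ι).map e.inv ≫ (bcDS W.ι M).inv ≫ dsHom Λ.subtype,
    c ≫ α.inv.app G, Groth.Abvar.isMonHom_comp hcm (Groth.Abvar.isMonHom_pullbackComp W.ι j₁ G).1, ?_, ?_, ?_⟩
  · haveI : IsIso (α.hom.app H).left := inferInstanceAs (IsIso ((Over.forget _).map (α.hom.app H)))
    haveI : IsIso ((Over.pullback W.ι).map e.inv).left :=
      inferInstanceAs (IsIso ((Over.forget _).map ((Over.pullback W.ι).map e.inv)))
    haveI : IsIso (bcDS W.ι M).inv.left := inferInstanceAs (IsIso ((Over.forget _).map (bcDS W.ι M).inv))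
    simp only [Over.comp_left]
    exact (FQ.of_iso _).comp ((FQ.of_iso _).comp ((FQ.of_iso _).comp (fq_dsHom _ Λ.subtype_injective)))
  · rw [Over.comp_left]
    exact MorphismProperty.comp_mem _ _ _ hcl inferInstance
  · simp only [Category.assoc]
    rw [reassoc_of% hc, Iso.inv_hom_id_assoc, ← Functor.map_comp_assoc, Iso.inv_hom_id_assoc]
    exact (α.hom.naturality_assoc f _).symm.trans (by rw [← NatTrans.comp_app, α.hom_inv_id]; simp)

/-- **The image of a group of multiplicative type.** -/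
theorem exists_image_MT (hH : IsMT H) :
    ∃ (Q : Over S) (_ : GrpObj Q) (j : Q ⟶ G) (_ : IsMonHom j) (f' : H ⟶ Q) (_ : IsMonHom f'),
      IsClosedImmersion j.left ∧ IsMT Q ∧ Flat f'.left ∧ Surjective f'.left ∧ f' ≫ j = f := by
  haveI := quasiCompact_left f hH
  obtain ⟨S', g, hflat, hsurj, hqc, hloc⟩ := hH
  haveI := hflat
  haveI := hsurj
  choose U hU M _ he₀ using hloc
  let e : ∀ s', Red.DS (U s' : Scheme.{u}) (M s') ≅ Red.bc ((U s').ι ≫ g) H := fun s' =>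
    ((Grp.forget _).mapIso (he₀ s').some).symm
  haveI he : ∀ s', IsMonHom (e s').hom := fun s' => inferInstanceAs (IsMonHom (he₀ s').some.inv.hom.hom)
  choose W hW Λ _ d c hcm hd hcl hdc using fun s' => exists_factor_chart f ((U s').ι ≫ g) (e s') ⟨s', hU s'⟩
  obtain ⟨Q, iQ, j, hj, f', hf', hjc, hfq, hfj, huniv⟩ := Groth.Cochar.Img.exists_image f fun s => by
    obtain ⟨s', rfl⟩ := hsurj.surj s
    exact ⟨_, (W s').ι ≫ (U s').ι ≫ g, inferInstance, _, d s', c s', ⟨⟨⟨s', hU s'⟩, hW s'⟩, rfl⟩, hd s',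
      hcl s', hdc s'⟩
  refine ⟨Q, iQ, j, hj, f', hf', hjc, ?_, hfq.1, hfq.2.1, hfj⟩
  refine ⟨S', g, hflat, hsurj, hqc, fun s' => ⟨(U s').ι ''ᵁ W s', ⟨⟨s', hU s'⟩, hW s', rfl⟩, Λ s', inferInstance, ?_⟩⟩
  obtain ⟨i, hi⟩ := huniv _ ((W s').ι ≫ (U s').ι ≫ g) _ (d s') (c s') (hd s') (hcl s') (hdc s')
  haveI := hcm s'
  haveI : IsClosedImmersion j.left := hjc
  haveI : Mono j := Over.mono_of_mono_left j
  haveI : IsMonHom ((Over.pullback ((W s').ι ≫ (U s').ι ≫ g)).map j) := Groth.Abvar.isMonHom_map j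
  haveI : IsMonHom i.hom := isMonHom_of_comp i.hom _ (c s') hi
  let k : ((U s').ι ''ᵁ W s' : Scheme.{u}) ⟶ (W s' : Scheme.{u}) :=
    IsOpenImmersion.lift ((W s').ι ≫ (U s').ι) ((U s').ι ''ᵁ W s').ι (by
      rintro _ ⟨v, rfl⟩
      obtain ⟨v', hv', e⟩ := v.2
      exact ⟨⟨v', hv'⟩, e⟩)
  have hk : k ≫ (W s').ι ≫ (U s').ι ≫ g = ((U s').ι ''ᵁ W s').ι ≫ g := by
    rw [← Category.assoc (W s').ι, IsOpenImmersion.lift_fac_assoc]
  obtain ⟨i', hi'⟩ := exists_trivialisation_comp Q k ((W s').ι ≫ (U s').ι ≫ g) i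
  revert i' hi'
  rw [hk]
  intro i' hi'
  haveI := hi'
  exact ⟨(Grp.mkIso' i').symm⟩

/-- The image is unique. -/
theorem image_unique (hH : IsMT H) {Q₁ Q₂ : Over S} [GrpObj Q₁] [GrpObj Q₂] (j₁ : Q₁ ⟶ G) (j₂ : Q₂ ⟶ G)
    (f₁ : H ⟶ Q₁) (f₂ : H ⟶ Q₂) [IsClosedImmersion j₁.left] [IsClosedImmersion j₂.left] [Flat f₁.left]
    [Surjective f₁.left] [Flat f₂.left] [Surjective f₂.left] (h₁ : f₁ ≫ j₁ = f) (h₂ : f₂ ≫ j₂ = f) :
    ∃ e : Q₁ ≅ Q₂, e.hom ≫ j₂ = j₁ ∧ f₁ ≫ e.hom = f₂ := by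
  haveI := quasiCompact_hom hH
  haveI : Mono j₁ := Over.mono_of_mono_left j₁
  haveI : Mono j₂ := Over.mono_of_mono_left j₂
  have hqc : ∀ (Q : Over S) (j : Q ⟶ G) [IsClosedImmersion j.left] (k : H ⟶ Q), QuasiCompact k.left := by
    intro Q j _ k
    haveI : IsSeparated Q.hom := by rw [← Over.w j]; infer_instance
    haveI : QuasiCompact (k.left ≫ Q.hom) := by rw [Over.w k]; infer_instance
    exact QuasiCompact.of_comp k.left Q.hom
  haveI := hqc Q₁ j₁ f₁
  haveI := hqc Q₂ j₂ f₂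
  obtain ⟨a, ha⟩ := exists_desc_qc f₁ f₂ fun T x y hxy => by
    rw [← cancel_mono j₂, Category.assoc, Category.assoc, h₂, ← h₁, reassoc_of% hxy]
  obtain ⟨b, hb⟩ := exists_desc_qc f₂ f₁ fun T x y hxy => by
    rw [← cancel_mono j₁, Category.assoc, Category.assoc, h₁, ← h₂, reassoc_of% hxy]
  haveI : Epi f₁.left := Flat.epi_of_flat_of_surjective _
  haveI : Epi f₂.left := Flat.epi_of_flat_of_surjective _
  haveI : Epi f₁ := Over.epi_of_epi_left f₁
  haveI : Epi f₂ := Over.epi_of_epi_left f₂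
  refine ⟨⟨a, b, by rw [← cancel_epi f₁, reassoc_of% ha, hb, Category.comp_id],
    by rw [← cancel_epi f₂, reassoc_of% hb, ha, Category.comp_id]⟩, ?_, ha⟩
  rw [← cancel_epi f₁, reassoc_of% ha, h₂, h₁]

/-- Homomorphisms out of diagonalisable groups of torsion free type have split tori as images,
locally on the base. -/
theorem exists_image_torsionFree {Γ₀ : Type} [AddCommGroup Γ₀] [IsAddTorsionFree Γ₀]
    (f : Red.DS S Γ₀ ⟶ G) [IsMonHom f] :
    ∃ (Q : Over S) (_ : GrpObj Q) (j : Q ⟶ G) (_ : IsMonHom j) (f' : Red.DS S Γ₀ ⟶ Q) (_ : IsMonHom f'),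
      IsClosedImmersion j.left ∧ Flat f'.left ∧ Surjective f'.left ∧ f' ≫ j = f ∧
      TwC.Locally S TwC.Topology.zariski (fun S' g => ∃ r : ℕ, Red.IsSplitTorusWith (Fin r → ℤ) (Red.bc g Q)) := by
  haveI := isAffineHom_DS (S := S) Γ₀
  haveI : QuasiCompact f.left := by
    haveI : QuasiCompact (f.left ≫ G.hom) := by rw [Over.w f]; infer_instance
    exact QuasiCompact.of_comp f.left G.hom
  choose U hsU hU Λ hΛ c hcm hcl hc using exists_closed_factor_nhd f
  let d := fun s => (bcDS (U s).ι Γ₀).inv ≫ dsHom (Λ s).subtype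
  have hd : ∀ s, FQ (d s).left := fun s => by
    haveI : IsIso (bcDS (U s).ι Γ₀).inv.left := inferInstanceAs (IsIso ((Over.forget _).map (bcDS (U s).ι Γ₀).inv))
    rw [Over.comp_left]
    exact (FQ.of_iso _).comp (fq_dsHom _ (Λ s).subtype_injective)
  have hdc : ∀ s, d s ≫ c s = (Over.pullback (U s).ι).map f := fun s => by
    rw [Category.assoc, hc, Iso.inv_hom_id_assoc]
  obtain ⟨Q, iQ, j, hj, f', hf', hjc, hfq, hfj, huniv⟩ := Groth.Cochar.Img.exists_image f fun s =>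
    ⟨_, (U s).ι, inferInstance, _, d s, c s, by rw [Scheme.Opens.range_ι]; exact hsU s, hd s, hcl s, hdc s⟩
  refine ⟨Q, iQ, j, hj, f', hf', hjc, hfq.1, hfq.2.1, hfj, fun s => ⟨U s, hsU s, ?_⟩⟩
  obtain ⟨i, hi⟩ := huniv _ (U s).ι _ (d s) (c s) (hd s) (hcl s) (hdc s)
  haveI := hcm s
  haveI : IsClosedImmersion j.left := hjc
  haveI : Mono j := Over.mono_of_mono_left j
  haveI : IsMonHom ((Over.pullback (U s).ι).map j) := Groth.Abvar.isMonHom_map j
  haveI : IsMonHom i.hom := isMonHom_of_comp i.hom _ (c s) hi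
  haveI : Module.Finite ℤ (Λ s) := Module.Finite.iff_addGroup_fg.mpr ((AddGroup.fg_iff_addSubgroup_fg _).mpr (hΛ s))
  let b := Module.finBasis ℤ (Λ s)
  let a : (Fin (Module.finrank ℤ (Λ s)) → ℤ) ≃+ Λ s := b.equivFun.symm.toAddEquiv
  let φ : Red.DS (U s : Scheme.{u}) (Λ s) ⟶ Red.DS (U s : Scheme.{u}) (Fin (Module.finrank ℤ (Λ s)) → ℤ) :=
    dsHom a.toAddMonoidHom
  haveI : IsIso φ.left := isIso_dsHom a.toAddMonoidHom a.bijective
  haveI : IsIso ((Over.forget _).map φ) := ‹IsIso φ.left›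
  haveI : IsIso φ := isIso_of_reflects_iso φ (Over.forget _)
  haveI : IsMonHom φ := Groth.AlgGrp1.isMonHom_of_points _ fun Z x y => mul_comp_dsHom _ x y
  exact ⟨_, ⟨(Grp.mkIso' i).symm ≪≫ Grp.mkIso' (asIso φ)⟩⟩

end Groth.Reductive.MonoTorus
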