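import Groth.Agent.Reductive.MonoTorus.ClosedImmersion
import Groth.Agent.Hopf.Cochar.LocalImage
import Groth.Agent.Reductive.MonoLocus
import Groth.Agent.Reductive.SubgroupObj
import Groth.Agent.Reductive.MTCrit.Sub

/-!
Kernels of homomorphisms out of diagonalisable groups.
-/

set_option autoImplicit false
universe u

open CategoryTheory MonoidalCategory CartesianMonoidalCategory MonObj GrpObj AlgebraicGeometry

noncomputable section

namespace Groth.Reductive.MonoTorus

open Groth.Reductive.FreeDiag Groth.Cochar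

variable {S : Scheme.{u}}

section Cover

variable {X Y Z : Over S}

theorem exists_desc_qc (p : X ⟶ Y) [Flat p.left] [Surjective p.left] [QuasiCompact p.left] (f : X ⟶ Z)
    (hf : ∀ (T : Over S) (a b : T ⟶ X), a ≫ p = b ≫ p → a ≫ f = b ≫ f) :
    ∃ g : Y ⟶ Z, p ≫ g = f := by
  have : EffectiveEpi p.left := inferInstance
  have hf' : ∀ {W : Scheme.{u}} (a b : W ⟶ X.left), a ≫ p.left = b ≫ p.left →
      a ≫ f.left = b ≫ f.left := by
    intro W a b hab
    have hW : b ≫ X.hom = a ≫ X.hom := by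
      rw [← Over.w p, ← Category.assoc, ← hab, Category.assoc]
    exact congr(($(hf (Over.mk (a ≫ X.hom)) (Over.homMk a rfl) (Over.homMk b hW)
      (by ext; exact hab))).left)
  refine ⟨Over.homMk (EffectiveEpi.desc p.left f.left (fun a b h => hf' a b h)) ?_, ?_⟩
  · rw [← cancel_epi p.left, EffectiveEpi.fac_assoc, Over.w f, Over.w p]
  · ext
    exact EffectiveEpi.fac p.left f.left (fun a b h => hf' a b h)

/-- Points of the target of a flat surjection lift after an epimorphism. -/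
theorem exists_lift_flat (p : X ⟶ Y) [Flat p.left] [Surjective p.left] {T : Over S} (y : T ⟶ Y) :
    ∃ (T' : Over S) (c : T' ⟶ T) (x : T' ⟶ X), Epi c ∧ x ≫ p = c ≫ y := by
  let k := Limits.pullback.fst y.left p.left
  haveI : Flat k := MorphismProperty.pullback_fst _ _ ‹_›
  haveI : Surjective k := MorphismProperty.pullback_fst _ _ ‹_›
  haveI : Epi k := Flat.epi_of_flat_of_surjective k
  let T' : Over S := Over.mk (k ≫ T.hom)
  let c : T' ⟶ T := Over.homMk k rfl
  haveI : Epi c.left := ‹Epi k›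
  refine ⟨T', c, Over.homMk (Limits.pullback.snd y.left p.left) ?_, Over.epi_of_epi_left c, ?_⟩
  · show _ ≫ X.hom = k ≫ T.hom
    rw [← Over.w p, ← Over.w y, Limits.pullback.condition_assoc]
  · ext
    exact Limits.pullback.condition.symm

/-- A homomorphism factoring through a flat surjective homomorphism factors as a homomorphism. -/
theorem isMonHom_of_flat {G H K : Over S} [GrpObj G] [GrpObj H] [GrpObj K] (p : G ⟶ H) [Flat p.left]
    [Surjective p.left] [IsMonHom p] (g : H ⟶ K) (f : G ⟶ K) [IsMonHom f] (h : p ≫ g = f) :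
    IsMonHom g :=
  Groth.AlgGrp1.isMonHom_of_points _ fun T a b => by
    obtain ⟨T₁, c₁, x, _, hx⟩ := exists_lift_flat p a
    obtain ⟨T₂, c₂, y, _, hy⟩ := exists_lift_flat p (c₁ ≫ b)
    rw [← cancel_epi (c₂ ≫ c₁), ← Category.assoc (c₂ ≫ c₁), MonObj.comp_mul, MonObj.comp_mul]
    have ha : (c₂ ≫ c₁) ≫ a = (c₂ ≫ x) ≫ p := by rw [Category.assoc, Category.assoc, hx]
    have hb : (c₂ ≫ c₁) ≫ b = y ≫ p := by rw [Category.assoc, hy]
    rw [← Category.assoc _ a, ← Category.assoc _ b, ha, hb, ← MonObj.mul_comp, Category.assoc,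
      Category.assoc (c₂ ≫ x), Category.assoc y, h, MonObj.mul_comp]

/-- A morphism is trivial if it is so locally. -/
theorem eq_one_of_cover {G Z W : Over S} [GrpObj G] (w : W ⟶ Z) (V : Z.left → Z.left.Opens) (hV : ∀ z, z ∈ V z)
    (x : W ⟶ G) (h : ∀ z (W' : Over S) (a : W' ⟶ W), (W' ⟶ Over.mk ((V z).ι ≫ Z.hom)) → a ≫ x = 1) :
    x = 1 := by
  let 𝒰 : Z.left.OpenCover := Scheme.openCoverOfIsOpenCover _ V
    (.mk (top_unique fun z _ ↦ TopologicalSpace.Opens.mem_iSup.mpr ⟨z, hV z⟩))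
  refine Over.OverMorphism.ext (Scheme.Cover.hom_ext (𝒰.pullback₁ w.left) _ _ fun z ↦ ?_)
  show Limits.pullback.fst w.left (V z).ι ≫ _ = Limits.pullback.fst w.left (V z).ι ≫ _
  let k := Limits.pullback.fst w.left (V z).ι
  let W' : Over S := Over.mk (k ≫ W.hom)
  let a : W' ⟶ W := Over.homMk k rfl
  have e := h z W' a (Over.homMk (Limits.pullback.snd w.left (V z).ι) (by
    show _ ≫ _ ≫ Z.hom = k ≫ W.hom
    rw [← Limits.pullback.condition_assoc, Over.w w]))
  rw [← MonObj.comp_one a] at e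
  exact congrArg (fun z : W' ⟶ G ↦ z.left) e

end Cover

variable {N : Type} [AddCommGroup N] {G : Over S} [GrpObj G]

/-- The point is killed by the characters in `Λ`. -/
def Kills {Z : Over S} (x : Z ⟶ Red.DS S N) (Λ : AddSubgroup N) : Prop :=
  ∀ n ∈ Λ, dsVal x (Multiplicative.ofAdd n) = 1

theorem kills_iff {Z : Over S} (x : Z ⟶ Red.DS S N) (Λ : AddSubgroup N) :
    Kills x Λ ↔ x ≫ dsHom Λ.subtype = 1 := by
  refine ⟨fun h => dsVal_ext fun m => ?_, fun h n hn => ?_⟩
  · rw [dsVal_dsHom, dsVal_one]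
    exact h _ m.toAdd.2
  · have e := congrArg (fun z => dsVal z (Multiplicative.ofAdd (⟨n, hn⟩ : Λ))) h
    simp only [dsVal_dsHom, dsVal_one] at e
    exact e

theorem kills_epi_comp {W Z : Over S} (c : W ⟶ Z) [Epi c] {x : Z ⟶ Red.DS S N} {Λ : AddSubgroup N} :
    Kills (c ≫ x) Λ ↔ Kills x Λ := by
  rw [kills_iff, kills_iff, Category.assoc, ← MonObj.comp_one c, cancel_epi]

theorem kills_dsHom_ker {M : Type} [AddCommGroup M] (b : N →+ M) {Z : Over S} (x : Z ⟶ Red.DS S M) :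
    Kills (x ≫ dsHom b) b.ker := fun n hn => by
  rw [dsVal_dsHom, show AddMonoidHom.toMultiplicative b (Multiplicative.ofAdd n) = 1 from
    congrArg Multiplicative.ofAdd (hn : b n = 0), ← dsValHom_apply]
  exact map_one _

theorem kills_map_iff {N' : Type} [AddCommGroup N'] (a : N' →+ N) {Z : Over S} (x : Z ⟶ Red.DS S N)
    (Λ : AddSubgroup N') : Kills x (Λ.map a) ↔ Kills (x ≫ dsHom a) Λ := by
  refine ⟨fun h n hn => ?_, fun h n hn => ?_⟩
  · rw [dsVal_dsHom]; exact h _ ⟨n, hn, rfl⟩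
  · obtain ⟨m, hm, rfl⟩ := hn
    have := h m hm
    rwa [dsVal_dsHom] at this

/-- Over `Z`, the kernel of `f` is cut out by the characters in `Λ`. -/
def KerEq (f : Red.DS S N ⟶ G) (Λ : AddSubgroup N) (Z : Over S) : Prop :=
  ∀ W : Over S, (W ⟶ Z) → ∀ x : W ⟶ Red.DS S N, x ≫ f = 1 ↔ Kills x Λ

variable {f : Red.DS S N ⟶ G} {Λ : AddSubgroup N}

theorem KerEq.of_hom {Z Z' : Over S} (h : KerEq f Λ Z) (a : Z' ⟶ Z) : KerEq f Λ Z' :=
  fun W w x => h W (w ≫ a) x

theorem KerEq.of_openCover {Z : Over S} (V : Z.left → Z.left.Opens) (hV : ∀ z, z ∈ V z)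
    (h : ∀ z, KerEq f Λ (Over.mk ((V z).ι ≫ Z.hom))) : KerEq f Λ Z := by
  intro W w x
  rw [kills_iff]
  constructor
  · intro hx
    refine eq_one_of_cover w V hV _ fun z W' a b => ?_
    rw [← Category.assoc, ← kills_iff]
    exact (h z W' b _).mp (by rw [Category.assoc, hx, MonObj.comp_one])
  · intro hx
    refine eq_one_of_cover w V hV _ fun z W' a b => ?_
    rw [← Category.assoc]
    exact (h z W' b _).mpr (by rw [kills_iff, Category.assoc, hx, MonObj.comp_one])

theorem KerEq.comp {N' : Type} [AddCommGroup N'] (a : N' →+ N) {f₀ : Red.DS S N' ⟶ G}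
    {Λ₀ : AddSubgroup N'} (hf : dsHom a ≫ f₀ = f) {Z : Over S} (h : KerEq f₀ Λ₀ Z) :
    KerEq f (Λ₀.map a) Z := fun W w x => by
  rw [← hf, ← Category.assoc, h W w, kills_map_iff]

theorem kills_dsPtEquiv {T : Scheme.{u}} (j : T ⟶ S) {Z : Over T} (y : Z ⟶ Red.DS T N) :
    Kills (dsPtEquiv j N Z y) Λ ↔ Kills y Λ :=
  forall₂_congr fun n _ => iff_of_eq (congrArg (· = (1 : Γ(Z.left, ⊤)))
    (dsVal_dsMk (S := S) ((Over.map j).obj Z) _ _))

theorem kerEq_bc_iff {T U : Scheme.{u}} (g : T ⟶ S) (k : U ⟶ T) :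
    KerEq f Λ (Over.mk (k ≫ g)) ↔
      KerEq (G := Red.bc g G) ((bcDS g N).hom ≫ (Over.pullback g).map f) Λ (Over.mk k) := by
  constructor
  · intro h W w x
    rw [← (bcPointEquiv g G W).injective.eq_iff, map_one, bcPointEquiv_bcDS_map, ← kills_dsPtEquiv g x]
    exact h ((Over.map g).obj W) ((Over.map g).map w ≫ (Over.homMk (𝟙 _) (Category.id_comp _) :
      (Over.map g).obj (Over.mk k) ⟶ Over.mk (k ≫ g))) _
  · intro h W w x
    let Z : Over T := Over.mk (w.left ≫ k)
    let c : (Over.map g).obj Z ≅ W := Over.isoMk (Iso.refl _) (by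
      show 𝟙 _ ≫ W.hom = (w.left ≫ k) ≫ g
      rw [Category.id_comp, Category.assoc]; exact (Over.w w).symm)
    obtain ⟨y, hy⟩ := (dsPtEquiv g N Z).surjective (c.hom ≫ x)
    have := h Z (Over.homMk w.left rfl) y
    rw [← (bcPointEquiv g G Z).injective.eq_iff, map_one, bcPointEquiv_bcDS_map, ← kills_dsPtEquiv g y, hy,
      Category.assoc, ← MonObj.comp_one c.hom, cancel_epi] at this
    exact this.trans (kills_epi_comp c.hom)

theorem kerEq_unique {Λ' : AddSubgroup N} {K : Type u} [Field K] (p : Spec (CommRingCat.of K) ⟶ S)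
    (h : KerEq f Λ (Over.mk p)) (h' : KerEq f Λ' (Over.mk p)) : Λ' ≤ Λ := by
  let Z := Red.DS (Spec (CommRingCat.of K)) (N ⧸ Λ)
  let y : Z ⟶ Red.DS (Spec (CommRingCat.of K)) N := dsHom (QuotientAddGroup.mk' Λ)
  have hy : Kills y Λ := by
    rw [kills_iff, dsHom_comp, ← dsHom_zero]
    exact congrArg _ (AddMonoidHom.ext fun n => (QuotientAddGroup.eq_zero_iff _).mpr n.2)
  let w : (Over.map p).obj Z ⟶ Over.mk p := Over.homMk Z.hom rfl
  have h2 := (h' _ w _).mp ((h _ w _).mpr ((kills_dsPtEquiv p y).mpr hy))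
  rw [kills_dsPtEquiv, kills_iff, dsHom_comp, ← dsHom_zero] at h2
  exact fun n hn => (QuotientAddGroup.eq_zero_iff _).mp (DFunLike.congr_fun (dsHom_injective h2) ⟨n, hn⟩)

theorem kerEq_unique_iff {Λ' : AddSubgroup N} {K : Type u} [Field K] (p : Spec (CommRingCat.of K) ⟶ S)
    (h : KerEq f Λ (Over.mk p)) (h' : KerEq f Λ' (Over.mk p)) : Λ' = Λ :=
  le_antisymm (kerEq_unique p h h') (kerEq_unique p h' h)

theorem isAffineHom_DS (M : Type) [AddCommGroup M] : IsAffineHom (Red.DS S M).hom := by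
  haveI : IsAffine (Red.diag (ULift.{u} ℤ) M).left :=
    inferInstanceAs (IsAffine (Spec (CommRingCat.of (MonoidAlgebra (ULift.{u} ℤ) (Multiplicative M)))))
  exact MorphismProperty.pullback_snd _ _ (inferInstance : IsAffineHom (Red.diag (ULift.{u} ℤ) M).hom)

/-- If the characters in `Λ` cut out points of the kernel, the homomorphism descends to `D(Λ)`. -/
theorem exists_desc_of_kills [IsMonHom f] (h : ∀ (W : Over S) (x : W ⟶ Red.DS S N), Kills x Λ → x ≫ f = 1) :
    ∃ c : Red.DS S Λ ⟶ G, IsMonHom c ∧ dsHom Λ.subtype ≫ c = f := by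
  let q : Red.DS S N ⟶ Red.DS S Λ := dsHom Λ.subtype
  obtain ⟨hqf, hqs⟩ := flat_surjective_dsHom (T := S) Λ.subtype Λ.subtype_injective
  haveI : Flat q.left := hqf
  haveI : Surjective q.left := hqs
  haveI := isAffineHom_DS (S := S) N
  haveI := isAffineHom_DS (S := S) Λ
  haveI : QuasiCompact q.left := by
    haveI : QuasiCompact (q.left ≫ (Red.DS S Λ).hom) := by rw [Over.w]; infer_instance
    exact QuasiCompact.of_comp q.left (Red.DS S Λ).hom
  obtain ⟨c, hc⟩ := exists_desc_qc q f fun Z a b hab => by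
    let F : (Z ⟶ Red.DS S N) →* (Z ⟶ Red.DS S Λ) :=
      MonoidHom.mk' (fun x => x ≫ q) (fun x y => mul_comp_dsHom _ x y)
    have h1 : (a * b⁻¹) ≫ q = 1 := by
      show F (a * b⁻¹) = 1
      rw [map_mul, map_inv]
      exact mul_inv_eq_one.mpr hab
    have h2 := h Z _ ((kills_iff _ _).mpr h1)
    rw [MonObj.mul_comp, GrpObj.inv_comp] at h2
    exact mul_inv_eq_one.mp h2
  exact ⟨c, isMonHom_of_flat q c f hc, hc⟩

/-- The kernel of the descended homomorphism is trivial where `Λ` cuts out the kernel. -/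
theorem kerTriv_of_kerEq {c : Red.DS S Λ ⟶ G} (hc : dsHom Λ.subtype ≫ c = f) {Z : Over S}
    (h : KerEq f Λ Z) : KerTriv c Z := by
  intro W w z hz
  obtain ⟨hqf, hqs⟩ := flat_surjective_dsHom (T := S) Λ.subtype Λ.subtype_injective
  obtain ⟨W', a, x, _, hx⟩ := exists_lift_flat (dsHom (T := S) Λ.subtype) z
  have h1 := (kills_iff _ _).mp ((h W' (a ≫ w) x).mp
    (by rw [← hc, ← Category.assoc, hx, Category.assoc, hz, MonObj.comp_one]))
  rw [hx, ← MonObj.comp_one a] at h1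
  exact (cancel_epi a).mp h1

variable [IsMonHom f]

/-- Where `Λ` cuts out the kernel everywhere, `f` is `D(N) → D(Λ)` followed by a closed immersion. -/
theorem exists_closed_factor [IsSeparated G.hom] [LocallyOfFiniteType G.hom] [QuasiCompact G.hom]
    (hΛ : Λ.FG) (h : ∀ W : Over S, KerEq f Λ W) :
    ∃ c : Red.DS S Λ ⟶ G, IsMonHom c ∧ IsClosedImmersion c.left ∧ dsHom Λ.subtype ≫ c = f := by
  obtain ⟨c, _, hc⟩ := exists_desc_of_kills fun W x => ((h W) W (𝟙 W) x).mpr
  haveI : Mono c := ⟨fun {W} a b hab => by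
    have h1 : (a * b⁻¹) ≫ c = 1 := by
      rw [MonObj.mul_comp, GrpObj.inv_comp, hab, mul_inv_cancel]
    exact mul_inv_eq_one.mp (kerTriv_of_kerEq hc (h W) W (𝟙 W) _ h1)⟩
  exact ⟨c, inferInstance, isClosedImmersion_of_mono_DS ((AddGroup.fg_iff_addSubgroup_fg Λ).mpr hΛ) c, hc⟩

/-- A diagonalisable kernel is cut out by characters. -/
theorem exists_kerEq_of_kernel {P : Over S} [GrpObj P] (ι₀ : P ⟶ Red.DS S N) [IsMonHom ι₀] [Mono ι₀]
    (f : Red.DS S N ⟶ G) (hι₀ : ι₀ ≫ f = 1)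
    (hlift : ∀ (W : Over S) (z : W ⟶ Red.DS S N), z ≫ f = 1 → ∃ y : W ⟶ P, y ≫ ι₀ = z)
    {L : Type u} [Field L] (p : Spec (CommRingCat.of L) ⟶ S) {M : Type} [AddCommGroup M]
    (i' : Red.DS (Spec (CommRingCat.of L)) M ≅ Red.bc p P) [hi' : IsMonHom i'.hom] :
    ∃ Λ : AddSubgroup N, KerEq f Λ (Over.mk p) := by
  classical
  let D := Red.DS S N
  haveI : IsMonHom ((Over.pullback p).map ι₀) := Groth.Abvar.isMonHom_map ι₀
  let j : Red.DS (Spec (CommRingCat.of L)) M ⟶ Red.DS (Spec (CommRingCat.of L)) N :=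
    i'.hom ≫ (Over.pullback p).map ι₀ ≫ (bcDS p N).inv
  haveI : IsMonHom j :=
    Groth.Abvar.isMonHom_comp hi' (Groth.Abvar.isMonHom_comp ‹_› inferInstance)
  haveI : Mono ((Over.pullback p).map ι₀) := inferInstance
  haveI : Mono j := inferInstance
  obtain ⟨b, hb⟩ := exists_dsHom_eq j
  have hbs : Function.Surjective b := by
    haveI : Mono (dsHom (T := Spec (CommRingCat.of L)) b).left := by rw [← hb]; infer_instance
    exact surjective_of_mono_dsHom (K := L) b
  let Λ := b.ker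
  refine ⟨Λ, fun W w x => ?_⟩
  let Z : Over (Spec (CommRingCat.of L)) := Over.mk w.left
  let c : (Over.map p).obj Z ≅ W := Over.isoMk (Iso.refl _) (by
    show 𝟙 _ ≫ W.hom = w.left ≫ p
    rw [Category.id_comp]; exact (Over.w w).symm)
  obtain ⟨y, hy⟩ := (dsPtEquiv p N Z).surjective (c.hom ≫ x)
  have hkey : ∀ y' : Z ⟶ Red.DS (Spec (CommRingCat.of L)) M,
      dsPtEquiv p N Z (y' ≫ j) = bcPointEquiv p P Z (y' ≫ i'.hom) ≫ ι₀ := by
    intro y'
    have h1 : (y' ≫ j) ≫ (bcDS p N).hom = (y' ≫ i'.hom) ≫ (Over.pullback p).map ι₀ := by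
      simp only [j, Category.assoc, Iso.inv_hom_id, Category.comp_id]
    rw [comp_bcDS] at h1
    have h2 := congrArg (bcPointEquiv p D Z) h1
    rw [MulEquiv.apply_symm_apply] at h2
    exact h2.trans ((Over.mapPullbackAdj p).homEquiv_naturality_right_symm _ _)
  constructor
  · intro hx
    obtain ⟨z, hz⟩ := hlift _ (c.hom ≫ x) (by rw [Category.assoc, hx, MonObj.comp_one])
    have hy' : y = ((bcPointEquiv p P Z).symm z ≫ i'.inv) ≫ j := by
      apply (dsPtEquiv p N Z).injective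
      rw [hkey, Category.assoc, Iso.inv_hom_id, Category.comp_id, MulEquiv.apply_symm_apply, hz, hy]
    rw [← kills_epi_comp c.hom, ← hy, kills_dsPtEquiv, hy', hb]
    exact kills_dsHom_ker b _
  · intro hx
    have hyk : Kills y Λ := by
      rw [← kills_dsPtEquiv p y, hy, kills_epi_comp]
      exact hx
    obtain ⟨y', hy'⟩ := exists_lift_quot Λ y ((kills_iff _ _).mp hyk)
    let e := QuotientAddGroup.quotientKerEquivOfSurjective b hbs
    have hmk : (e.symm : M →+ N ⧸ Λ).comp b = QuotientAddGroup.mk' Λ :=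
      AddMonoidHom.ext fun n => e.symm_apply_eq.mpr rfl
    rw [← hmk, ← dsHom_comp, ← hb, ← Category.assoc] at hy'
    rw [← cancel_epi c.hom, MonObj.comp_one, ← Category.assoc, ← hy, ← hy', hkey, Category.assoc, hι₀,
      MonObj.comp_one]


/-- Every point lies below a field valued point over which the kernel is cut out by characters. -/
theorem exists_kerEq_field [IsSeparated G.hom] (hN : AddGroup.FG N) (f : Red.DS S N ⟶ G) [IsMonHom f]
    (s : S) : ∃ (L : Type u) (_ : Field L) (p : Spec (CommRingCat.of L) ⟶ S) (Λ : AddSubgroup N),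
      p.base (IsLocalRing.closedPoint L) = s ∧ KerEq f Λ (Over.mk p) := by
  let D := Red.DS S N
  haveI : IsClosedImmersion η[G].left := by
    haveI : IsClosedImmersion (η[G].left ≫ G.hom) := by
      rw [Over.w η[G]]
      exact MorphismProperty.id_mem @IsClosedImmersion _
    exact MorphismProperty.of_postcomp (W := @IsClosedImmersion) (W' := @IsSeparated) η[G].left
      G.hom inferInstance inferInstance
  -- the kernel
  let a := Limits.pullback.fst f.left η[G].left
  let P : Over S := Over.mk (a ≫ D.hom)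
  let ι₀ : P ⟶ D := Over.homMk a rfl
  haveI : IsClosedImmersion ι₀.left := MorphismProperty.pullback_fst _ _ ‹_›
  haveI : Mono ι₀ := Over.mono_of_mono_left ι₀
  have hlift : ∀ (W : Over S) (z : W ⟶ D), z ≫ f = 1 → ∃ y : W ⟶ P, y ≫ ι₀ = z := by
    intro W z hz
    rw [Hom.one_def] at hz
    exact ⟨Over.homMk (Limits.pullback.lift z.left (toUnit W).left (congrArg (fun m => m.left) hz))
      ((Limits.pullback.lift_fst_assoc _ _ _ _).trans (Over.w z)),
      Over.OverMorphism.ext (Limits.pullback.lift_fst _ _ _)⟩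
  have hι₀ : ι₀ ≫ f = 1 := by
    rw [Hom.one_def]
    refine Over.OverMorphism.ext ((Limits.pullback.condition (f := f.left) (g := η[G].left)).trans ?_)
    refine congrArg (· ≫ η[G].left) ?_
    have h1 := congrArg (· ≫ G.hom) (Limits.pullback.condition (f := f.left) (g := η[G].left))
    simp only [Category.assoc] at h1
    rw [Over.w η[G], Over.w f] at h1
    exact (Category.comp_id _).symm.trans h1.symm
  obtain ⟨_, _⟩ := Groth.Reductive.exists_grpObj_of_mono ι₀
    (hlift _ 1 (MonObj.one_comp _))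
    (hlift _ _ (by
      rw [MonObj.mul_comp, Category.assoc, Category.assoc, hι₀, MonObj.comp_one, MonObj.comp_one,
        _root_.mul_one]))
    (hlift _ _ (by rw [GrpObj.inv_comp, hι₀, inv_one]))
  -- over an algebraically closed field above `s`
  let K := AlgebraicClosure (S.residueField s)
  let p₀ : Spec (CommRingCat.of K) ⟶ S :=
    Spec.map (CommRingCat.ofHom (algebraMap (S.residueField s) K)) ≫ S.fromSpecResidueField s
  have hp₀ : p₀.base (IsLocalRing.closedPoint K) = s := by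
    rw [Scheme.Hom.comp_apply, Scheme.fromSpecResidueField_apply]
  haveI : IsClosedImmersion ((Over.pullback p₀).map ι₀).left :=
    MorphismProperty.of_isPullback (P := @IsClosedImmersion) (isPullback_map_left ι₀ p₀) ‹_›
  haveI : IsMonHom ((Over.pullback p₀).map ι₀) := Groth.Abvar.isMonHom_map ι₀
  have hDmt : SGA3x.IsMultTypeFT (Red.bc p₀ D) := isMultTypeFT_bc (isMultTypeFT_DS hN) p₀
  obtain ⟨_, _, _⟩ := Groth.Cochar.props (isMultTypeFT_DS (T := S) hN)
  haveI : IsAffineHom ι₀.left := inferInstance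
  haveI : IsAffineHom P.hom := inferInstanceAs (IsAffineHom (ι₀.left ≫ D.hom))
  haveI : LocallyOfFiniteType P.hom := inferInstanceAs (LocallyOfFiniteType (ι₀.left ≫ D.hom))
  haveI : IsAffineHom (Red.bc p₀ P).hom := MorphismProperty.pullback_snd _ _ ‹IsAffineHom P.hom›
  haveI : IsAffine (Red.bc p₀ P).left := isAffine_of_isAffineHom (Red.bc p₀ P).hom
  haveI : LocallyOfFiniteType (Red.bc p₀ P).hom :=
    MorphismProperty.pullback_snd _ _ ‹LocallyOfFiniteType P.hom›
  have hPmt : SGA3x.IsMultTypeFT (Red.bc p₀ P) :=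
    Groth.Reductive.MTCrit.isMultTypeFT_of_closed_field hDmt ((Over.pullback p₀).map ι₀)
  -- a diagonalisable kernel
  obtain ⟨L, _, q, M, _, hM, hq, i, hi⟩ := Groth.Cochar.exists_field_triv hPmt (IsLocalRing.closedPoint K)
  let p := q ≫ p₀
  let α : Red.bc p P ≅ Red.bc q (Red.bc p₀ P) := (Over.pullbackComp q p₀).app P
  haveI hα : IsMonHom α.inv := (Groth.Abvar.isMonHom_pullbackComp q p₀ P).1
  let i' : Red.DS (Spec (CommRingCat.of L)) M ≅ Red.bc p P := i ≪≫ α.symm
  haveI hi' : IsMonHom i'.hom := Groth.Abvar.isMonHom_comp hi hα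
  obtain ⟨Λ, hΛ⟩ := exists_kerEq_of_kernel ι₀ f hι₀ hlift p i'
  exact ⟨L, inferInstance, p, Λ, by rw [Scheme.Hom.comp_apply, hq, hp₀], hΛ⟩

/-- Near every point the kernel is cut out by a group of characters. -/
theorem exists_kerEq_open [IsSeparated G.hom] [LocallyOfFinitePresentation G.hom] (hN : AddGroup.FG N)
    (f : Red.DS S N ⟶ G) [IsMonHom f] (s : S) :
    ∃ (Λ : AddSubgroup N) (U : S.Opens), Λ.FG ∧ s ∈ U ∧ KerEq f Λ (Over.mk U.ι) := by
  obtain ⟨L, _, p, Λ, hps, hp⟩ := exists_kerEq_field hN f s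
  haveI : Module.Finite ℤ N := Module.Finite.iff_addGroup_fg.mpr hN
  have hΛfg : AddGroup.FG Λ :=
    Module.Finite.iff_addGroup_fg.mp (inferInstanceAs (Module.Finite ℤ Λ.toIntSubmodule))
  have hQfg : AddGroup.FG (N ⧸ Λ) := Module.Finite.iff_addGroup_fg.mp
    (inferInstanceAs (Module.Finite ℤ (N ⧸ Λ.toIntSubmodule)))
  let d := dsHom (T := S) (QuotientAddGroup.mk' Λ)
  have hd : ∀ (W : Over S) (x : W ⟶ Red.DS S (N ⧸ Λ)), Kills (x ≫ d) Λ := fun W x n hn => by
    rw [dsVal_dsHom, show AddMonoidHom.toMultiplicative (QuotientAddGroup.mk' Λ) (Multiplicative.ofAdd n) = 1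
      from congrArg Multiplicative.ofAdd ((QuotientAddGroup.eq_zero_iff n).mpr hn)]
    exact map_one (dsValHom x)
  have htriv : TrivOn (d ≫ f) (Over.mk p) := fun W w x => by
    rw [← Category.assoc]
    exact (hp W w _).mpr (hd W x)
  obtain ⟨V, -, hViff, hVt⟩ := exists_clopen_trivLocus' (d ≫ f) (isMultTypeFT_DS hQfg) (Or.inr inferInstance)
  have hsV : s ∈ V := by
    rw [hViff, pullback_map_eq_one_iff, ← hps]
    exact (trivOn_fieldPoint_iff (u := d ≫ f) L p).mp htriv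
  have hVle : ∀ (W : Over S), (W ⟶ Over.mk V.ι) → ∀ x : W ⟶ Red.DS S N, Kills x Λ → x ≫ f = 1 := by
    intro W w x hx
    obtain ⟨x', rfl⟩ := exists_lift_quot Λ x ((kills_iff _ _).mp hx)
    rw [Category.assoc]
    exact hVt W w x'
  let f₁ : Red.DS (V : Scheme.{u}) N ⟶ Red.bc V.ι G := (bcDS V.ι N).hom ≫ (Over.pullback V.ι).map f
  haveI : IsMonHom f₁ := Groth.Abvar.isMonHom_comp inferInstance (Groth.Abvar.isMonHom_map f)
  haveI : IsSeparated (Red.bc V.ι G).hom := MorphismProperty.pullback_snd _ _ ‹_›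
  obtain ⟨c₁, hc₁', hc₁⟩ := exists_desc_of_kills (f := f₁) (Λ := Λ) fun W x hx => by
    apply (bcPointEquiv V.ι G W).injective
    rw [map_one, bcPointEquiv_bcDS_map]
    exact hVle _ (Over.homMk W.hom rfl) _ ((kills_dsPtEquiv V.ι x).mpr hx)
  have hr : Set.range p ⊆ Set.range V.ι := by
    rw [Scheme.Opens.range_ι]
    rintro _ ⟨y, rfl⟩
    rw [Subsingleton.elim y (IsLocalRing.closedPoint L)]
    exact (hps.symm ▸ hsV :)
  obtain ⟨p₁, hp₁⟩ : ∃ p₁ : Spec (CommRingCat.of L) ⟶ V, p₁ ≫ V.ι = p :=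
    ⟨IsOpenImmersion.lift V.ι p hr, IsOpenImmersion.lift_fac _ _ _⟩
  have hk₁ : KerTriv c₁ (Over.mk p₁) :=
    kerTriv_of_kerEq hc₁ ((kerEq_bc_iff V.ι p₁).mp (hp₁.symm ▸ hp))
  obtain ⟨W, hWiff, hWm⟩ := exists_open_monoLocus (u := c₁) (isMultTypeFT_DS hΛfg)
  have hsW : p₁.base (IsLocalRing.closedPoint L) ∈ W :=
    (hWiff _).mpr ((prop_map_fieldPoint_iff c₁ (MorphismProperty.monomorphisms _) L p₁).mp
      ((mono_map_iff p₁).mpr hk₁))
  have hkW : KerTriv c₁ (Over.mk W.ι) := (mono_map_iff W.ι).mp hWm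
  refine ⟨Λ, V.ι ''ᵁ W, (AddGroup.fg_iff_addSubgroup_fg Λ).mp hΛfg, ⟨_, hsW, ?_⟩, ?_⟩
  · rw [← hps, ← hp₁]; rfl
  have hKer : KerEq f Λ (Over.mk (W.ι ≫ V.ι)) := by
    rw [kerEq_bc_iff]
    intro X w x
    constructor
    · intro hx
      rw [kills_iff]
      refine hkW X w _ ?_
      rw [Category.assoc, hc₁]
      exact hx
    · intro hx
      apply (bcPointEquiv V.ι G X).injective
      rw [map_one, bcPointEquiv_bcDS_map]
      exact hVle _ (Over.homMk X.hom rfl) _ ((kills_dsPtEquiv V.ι x).mpr hx)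
  refine hKer.of_hom (Over.homMk (IsOpenImmersion.lift (W.ι ≫ V.ι) (V.ι ''ᵁ W).ι ?_)
    (IsOpenImmersion.lift_fac _ _ _))
  rintro _ ⟨v, rfl⟩
  obtain ⟨v', hv', e⟩ := v.2
  exact ⟨⟨v', hv'⟩, e⟩

end Groth.Reductive.MonoTorus
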