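import Groth.Agent.Reductive.MonoTorus.Val

/-!
A point of a split torus over the fraction field of a valuation ring whose image under a
monomorphism extends over the valuation ring has unit character values.
-/

set_option autoImplicit false
universe u

open CategoryTheory MonoidalCategory CartesianMonoidalCategory MonObj GrpObj AlgebraicGeometry

noncomputable section

namespace Groth.Reductive.MonoTorus

attribute [local instance] algΓ'

variable {R : Type u} [CommRing R] {r : ℕ}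

/-- The restriction of an integral point. -/
abbrev gPt {G : Over (Spec (CommRingCat.of R))} (g : PA (RingHom.id R) ⟶ G) {A : Type u} [CommRing A]
    (f : R →+* A) : PA f ⟶ G :=
  pMap f (RingHom.comp_id f) ≫ g

lemma pMap_gPt {G : Over (Spec (CommRingCat.of R))} (g : PA (RingHom.id R) ⟶ G) {A A' : Type u} [CommRing A]
    [CommRing A'] {f : R →+* A} {f' : R →+* A'} (φ : A →+* A') (h : φ.comp f = f') :
    pMap φ h ≫ gPt g f = gPt g f' := by
  show pMap φ h ≫ pMap f _ ≫ g = pMap f' _ ≫ g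
  rw [← Category.assoc]
  congr 1
  refine Over.OverMorphism.ext ?_
  show Spec.map _ ≫ Spec.map _ = Spec.map _
  rw [← Spec.map_comp, ← CommRingCat.ofHom_comp, h]

/-- The translates of a point of the torus. -/
abbrev trans {G : Over (Spec (CommRingCat.of R))} [GrpObj G]
    (u : Red.DS (Spec (CommRingCat.of R)) (Fin r → ℤ) ⟶ G) (g : PA (RingHom.id R) ⟶ G)
    {A : Type u} [CommRing A] (f : R →+* A) (χ : Multiplicative (Fin r → ℤ) →* A) (n : ℕ) : PA f ⟶ G :=
  gPt g f ^ n * (ptD f χ ≫ u)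

lemma pMap_trans {G : Over (Spec (CommRingCat.of R))} [GrpObj G]
    (u : Red.DS (Spec (CommRingCat.of R)) (Fin r → ℤ) ⟶ G) (g : PA (RingHom.id R) ⟶ G)
    {A A' : Type u} [CommRing A] [CommRing A'] {f : R →+* A} {f' : R →+* A'} (φ : A →+* A')
    (h : φ.comp f = f') (χ : Multiplicative (Fin r → ℤ) →* A) (n : ℕ) :
    pMap φ h ≫ trans u g f χ n = trans u g f' (φ.toMonoidHom.comp χ) n := by
  show pMap φ h ≫ (gPt g f ^ n * (ptD f χ ≫ u)) = gPt g f' ^ n * (ptD f' _ ≫ u)
  rw [MonObj.comp_mul, MonObj.comp_pow, pMap_gPt, ← Category.assoc, pMap_ptD]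

/-- The coordinates of a translate generate the function field of the torus. -/
theorem mem_adjoin_of_trans {G : Over (Spec (CommRingCat.of R))} [GrpObj G]
    (u : Red.DS (Spec (CommRingCat.of R)) (Fin r → ℤ) ⟶ G) [Mono u.left] (g : PA (RingHom.id R) ⟶ G)
    {k E : Type u} [Field k] [Field E] [Algebra k E] (r₀ : R →+* k)
    {W : G.left.Opens} (hW : IsAffineOpen W) (al : R →+* Γ(G.left, W))
    (hal : hW.fromSpec ≫ G.hom = Spec.map (CommRingCat.ofHom al)) {J' : Type*} (a : J' → Γ(G.left, W))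
    (ha : letI := al.toAlgebra; Algebra.adjoin R (Set.range a) = ⊤) (ψ : Γ(G.left, W) →+* E)
    (hψα : ψ.comp al = (algebraMap k E).comp r₀) (χ : Multiplicative (Fin r → ℤ) →* E) (n : ℕ)
    (hψ : Spec.map (CommRingCat.ofHom ψ) ≫ hW.fromSpec = (trans u g ((algebraMap k E).comp r₀) χ n).left)
    (m : Multiplicative (Fin r → ℤ)) :
    χ m ∈ IntermediateField.adjoin k (Set.range fun j ↦ ψ (a j)) := by
  letI := al.toAlgebra
  set E₀ := IntermediateField.adjoin k (Set.range fun j ↦ ψ (a j))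
  let f := (algebraMap k E).comp r₀
  have hk0 : ∀ c, f c ∈ E₀ := fun c ↦ E₀.algebraMap_mem _
  have hall : ∀ x, ψ x ∈ E₀ := fun x ↦ by
    have hx : x ∈ Algebra.adjoin R (Set.range a) := by rw [ha]; trivial
    induction hx using Algebra.adjoin_induction with
    | mem y hy =>
      obtain ⟨j, rfl⟩ := hy
      exact IntermediateField.subset_adjoin k _ ⟨j, rfl⟩
    | algebraMap c =>
      rw [show ψ (algebraMap R _ c) = f c from DFunLike.congr_fun hψα c]
      exact hk0 c
    | add x y _ _ hx hy => rw [map_add]; exact add_mem hx hy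
    | mul x y _ _ hx hy => rw [map_mul]; exact mul_mem hx hy
  let f₀ : R →+* E₀ := f.codRestrict E₀.toSubfield.toSubring hk0
  let ψ₀ : Γ(G.left, W) →+* E₀ := ψ.codRestrict E₀.toSubfield.toSubring hall
  let j₀ : E₀ →+* E := E₀.val.toRingHom
  have hj : j₀.comp f₀ = f := rfl
  let y₀ : PA f₀ ⟶ G := Over.homMk (Spec.map (CommRingCat.ofHom ψ₀) ≫ hW.fromSpec) (by
    show _ = Spec.map _
    rw [Category.assoc, hal, ← Spec.map_comp, ← CommRingCat.ofHom_comp,
      show ψ₀.comp al = f₀ from RingHom.ext fun c ↦ Subtype.ext (DFunLike.congr_fun hψα c)])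
  have e : pMap j₀ hj ≫ y₀ = trans u g f χ n := Over.OverMorphism.ext (by
    rw [← hψ]
    show Spec.map _ ≫ Spec.map _ ≫ _ = _
    rw [← Category.assoc, ← Spec.map_comp, ← CommRingCat.ofHom_comp]
    rfl)
  have hy₀ : pMap j₀ hj ≫ ((gPt g f₀ ^ n)⁻¹ * y₀) = ptD f χ ≫ u := by
    rw [MonObj.comp_mul, GrpObj.comp_inv, MonObj.comp_pow, pMap_gPt, e]
    exact inv_mul_cancel_left _ _
  obtain ⟨w, hw⟩ := exists_factor_of_mono u j₀ hj (ptD f χ) _ hy₀
  have h := congrArg (fun x ↦ chiOf x m) hw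
  simp only [chiOf_ptD] at h
  rw [← ptD_chiOf w, pMap_ptD, chiOf_ptD] at h
  exact h ▸ (chiOf w m).2

/-- A morphism from an affine scheme into an affine open. -/
theorem exists_lift_affine {G : Over (Spec (CommRingCat.of R))} {W : G.left.Opens} (hW : IsAffineOpen W)
    (al : R →+* Γ(G.left, W)) (hal : hW.fromSpec ≫ G.hom = Spec.map (CommRingCat.ofHom al))
    {C : Type u} [CommRing C] (f : R →+* C) (y : PA (R := CommRingCat.of R) f ⟶ G) (hy : ∀ z : (PA (R := CommRingCat.of R) f).left, y.left z ∈ W) :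
    ∃ ψ : Γ(G.left, W) →+* C, ψ.comp al = f ∧ Spec.map (CommRingCat.ofHom ψ) ≫ hW.fromSpec = y.left := by
  have hr : Set.range y.left ⊆ Set.range hW.fromSpec := by
    rw [hW.range_fromSpec]
    rintro _ ⟨z, rfl⟩
    exact hy z
  let ψ := Spec.preimage (IsOpenImmersion.lift hW.fromSpec y.left hr)
  have hψ : Spec.map ψ ≫ hW.fromSpec = y.left := by
    rw [Spec.map_preimage]
    exact IsOpenImmersion.lift_fac _ _ _
  refine ⟨ψ.hom, ?_, hψ⟩
  have h : Spec.map (CommRingCat.ofHom (ψ.hom.comp al)) = Spec.map (CommRingCat.ofHom f) := by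
    rw [CommRingCat.ofHom_comp, Spec.map_comp, ← hal, ← Category.assoc]
    exact (congrArg (· ≫ G.hom) hψ).trans (Over.w y)
  exact congrArg CommRingCat.Hom.hom (Spec.map_injective h)

theorem eq_of_spec {G : Scheme.{u}} {W : G.Opens} (hW : IsAffineOpen W) {C : Type u} [CommRing C]
    (ψ ψ' : Γ(G, W) →+* C)
    (h : Spec.map (CommRingCat.ofHom ψ) ≫ hW.fromSpec = Spec.map (CommRingCat.ofHom ψ') ≫ hW.fromSpec) :
    ψ = ψ' :=
  congrArg CommRingCat.Hom.hom (Spec.map_injective ((cancel_mono hW.fromSpec).mp h))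

/-- A field valued point lies in an open if an extension of it does. -/
theorem mem_of_extension {G : Over (Spec (CommRingCat.of R))} (W : G.left.Opens)
    {C C' : Type u} [Field C] [Field C'] {f : R →+* C} {f' : R →+* C'} (φ : C →+* C') (hφ : φ.comp f = f')
    (y : PA (R := CommRingCat.of R) f ⟶ G) (h : ∀ z : (PA (R := CommRingCat.of R) f').left, (pMap φ hφ ≫ y).left z ∈ W) (z : (PA (R := CommRingCat.of R) f).left) :
    y.left z ∈ W := by
  let z' : Spec (CommRingCat.of C') := IsLocalRing.closedPoint C'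
  rw [Subsingleton.elim (α := (Spec (CommRingCat.of C) : Scheme.{u})) z ((pMap φ hφ).left z')]
  exact h z'

variable [IsDomain R] [ValuationRing R] {K : Type u} [Field K] [Algebra R K] [IsFractionRing R K]

/-- Elements of the fraction field which are integral for a dominating valuation are integral. -/
theorem exists_of_valuation_le_one {L : Type u} [Field L] [Algebra K L] (V : ValuationSubring L)
    (h : ∀ b ∈ IsLocalRing.maximalIdeal R, V.valuation (algebraMap K L (algebraMap R K b)) < 1) (c : K)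
    (hc : V.valuation (algebraMap K L c) ≤ 1) : ∃ b, algebraMap R K b = c := by
  rcases ValuationRing.isInteger_or_isInteger R c with hi | ⟨b, hb⟩
  · exact hi
  by_cases hu : IsUnit b
  · refine ⟨(hu.unit⁻¹ : Rˣ), ?_⟩
    rw [← inv_inv c, ← hb, map_units_inv]
    rfl
  by_cases hc0 : c = 0
  · exact ⟨0, by rw [map_zero, hc0]⟩
  exfalso
  have h1 := h b ((IsLocalRing.mem_maximalIdeal b).mpr hu)
  rw [hb, map_inv₀, map_inv₀] at h1
  exact absurd ((inv_lt_one₀ (zero_lt_iff.mpr (by simpa using hc0))).mp h1) (not_lt.mpr hc)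

/-- The translates have coordinates in a fixed affine open with independent residues infinitely often. -/
theorem exists_coordinates {G : Over (Spec (CommRingCat.of R))} [GrpObj G] [LocallyOfFiniteType G.hom]
    [QuasiCompact G.hom] (u : Red.DS (Spec (CommRingCat.of R)) (Fin r → ℤ) ⟶ G) [IsMonHom u] [Mono u.left]
    (t : Multiplicative (Fin r → ℤ) →* K) (g : PA (RingHom.id R) ⟶ G)
    (hg : gPt g (algebraMap R K) = ptD (algebraMap R K) t ≫ u)
    {k Lk L : Type u} [Field k] [Field Lk] [Field L] [Algebra k Lk] [Algebra K L] (r₀ : R →+* k)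
    (V : ValuationSubring L) (fV : R →+* V) (hVL : V.subtype.comp fV = (algebraMap K L).comp (algebraMap R K))
    (emb : Lk →+* IsLocalRing.ResidueField V)
    (hLkE : emb.comp ((algebraMap k Lk).comp r₀) = (IsLocalRing.residue V).comp fV)
    (χV : Multiplicative (Fin r → ℤ) →* V) (χL : Multiplicative (Fin r → ℤ) →* L)
    (χLk : Multiplicative (Fin r → ℤ) →* Lk) (hχL : ∀ m, (χV m : L) = χL m)
    (hχLk : ∀ m, IsLocalRing.residue V (χV m) = emb (χLk m))
    (htop : ∀ F : IntermediateField k Lk, (∀ i, χLk (basisChar i) ∈ F) → F = ⊤)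
    (hzLk : AlgebraicIndependent k fun j : Fin r ↦ χLk (basisChar j))
    (σ : ℕ → L →ₐ[K] L) (hσ : ∀ n m, σ n (χL m) = algebraMap K L (t m) ^ n * χL m) :
    ∃ (m : ℕ) (x : Fin m → L) (J : Set ℕ), r ≤ m ∧ J.Infinite ∧ ∀ n ∈ J, ∃ hy : ∀ l, σ n (x l) ∈ V,
      ∃ w : Fin m → Lk, AlgebraicIndependent k w ∧
        ∀ l, IsLocalRing.residue V ⟨σ n (x l), hy l⟩ = emb (w l) := by
  classical
  let fLk : R →+* Lk := (algebraMap k Lk).comp r₀
  let fL : R →+* L := (algebraMap K L).comp (algebraMap R K)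
  let res := IsLocalRing.residue V
  have hYE : ∀ n, pMap res rfl ≫ trans u g fV χV n = pMap emb hLkE ≫ trans u g fLk χLk n := fun n ↦ by
    rw [pMap_trans, pMap_trans]
    congr 1
    exact MonoidHom.ext hχLk
  have hσfL : ∀ n, (σ n : L →+* L).comp fL = fL := fun n ↦ RingHom.ext fun b ↦ (σ n).commutes _
  have hYL : ∀ n, pMap V.subtype hVL ≫ trans u g fV χV n =
      pMap (σ n : L →+* L) (hσfL n) ≫ ptD fL χL ≫ u := fun n ↦ by
    have hgL : gPt g fL = ptD fL ((algebraMap K L).toMonoidHom.comp t) ≫ u := by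
      rw [← pMap_gPt g (algebraMap K L) rfl, hg, ← Category.assoc, pMap_ptD]
    rw [pMap_trans, ← Category.assoc, pMap_ptD]
    show gPt g fL ^ n * _ = _
    have e : ∀ a b : Multiplicative (Fin r → ℤ) →* L, (ptD fL a ≫ u) ^ n * (ptD fL b ≫ u) = ptD fL (a ^ n * b) ≫ u := fun a b ↦ by
      rw [ptD_mul, ptD_pow]
      exact ((MonObj.mul_comp _ _ u).trans (congrArg (· * (ptD fL b ≫ u)) (MonObj.pow_comp _ n u))).symm
    rw [hgL, e]
    congr 2
    refine MonoidHom.ext fun m ↦ ?_
    show (algebraMap K L (t m)) ^ n * (χV m : L) = σ n (χL m)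
    rw [hσ, hχL]
  haveI : CompactSpace G.left := QuasiCompact.compactSpace_of_compactSpace G.hom
  obtain ⟨𝒲, hcov⟩ : ∃ 𝒲 : Finset G.left.affineOpens, ∀ x : G.left, ∃ W ∈ 𝒲, x ∈ W.1 := by
    obtain ⟨𝒲, h⟩ := isCompact_univ.elim_finite_subcover (fun W : G.left.affineOpens ↦ (W.1 : Set G.left))
      (fun W ↦ W.1.isOpen) (fun x _ ↦ by
        have : x ∈ ⨆ W : G.left.affineOpens, W.1 := by rw [iSup_affineOpens_eq_top]; trivial
        simpa using this)
    refine ⟨𝒲, fun x ↦ ?_⟩
    simpa using h (Set.mem_univ x)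
  choose Wc hWc using fun n ↦
    hcov ((trans u g fV χV n).left (IsLocalRing.closedPoint V : Spec (CommRingCat.of V)))
  obtain ⟨⟨⟨W₀, hW₀⟩, hW₀mem⟩, hinf⟩ := Finite.exists_infinite_fiber (fun n ↦ (⟨Wc n, (hWc n).1⟩ : 𝒲))
  let I : Set ℕ := {n | (Wc n).1 = W₀}
  have hI : I.Infinite := by
    refine Set.Infinite.mono ?_ (Set.infinite_coe_iff.mp hinf)
    intro n hn
    exact congrArg (fun z : 𝒲 ↦ z.1.1) hn
  obtain ⟨al, hal⟩ : ∃ al : R →+* Γ(G.left, W₀), hW₀.fromSpec ≫ G.hom = Spec.map (CommRingCat.ofHom al) :=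
    ⟨(Spec.preimage (hW₀.fromSpec ≫ G.hom)).hom, by
      rw [show CommRingCat.ofHom (Spec.preimage (hW₀.fromSpec ≫ G.hom)).hom =
        Spec.preimage (hW₀.fromSpec ≫ G.hom) from rfl, Spec.map_preimage]⟩
  letI := al.toAlgebra
  haveI : Algebra.FiniteType R Γ(G.left, W₀) := by
    have h : LocallyOfFiniteType (Spec.map (CommRingCat.ofHom al)) := by rw [← hal]; infer_instance
    exact (HasRingHomProperty.Spec_iff (P := @LocallyOfFiniteType)).mp h
  obtain ⟨S, hS⟩ := (Algebra.FiniteType.out : (⊤ : Subalgebra R Γ(G.left, W₀)).FG)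
  let a : Fin S.card → Γ(G.left, W₀) := fun j ↦ (S.equivFin.symm j).1
  have ha : Algebra.adjoin R (Set.range a) = ⊤ := by
    rw [show Set.range a = (S : Set Γ(G.left, W₀)) from (EquivLike.range_comp _ S.equivFin.symm).trans
      Subtype.range_coe, hS]
  have hmemV : ∀ n ∈ I, ∀ z, (trans u g fV χV n).left z ∈ W₀ := fun n hn z ↦ by
    have hcl : (IsLocalRing.closedPoint V : Spec (CommRingCat.of V)) ∈ (trans u g fV χV n).left ⁻¹ᵁ W₀ := by
      have := (hWc n).2
      rw [show (Wc n).1 = W₀ from hn] at this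
      exact this
    have htop := IsLocalRing.closed_point_mem_iff.mp hcl
    show z ∈ (trans u g fV χV n).left ⁻¹ᵁ W₀
    rw [htop]
    trivial
  choose ψ hψα hψ using fun n : I ↦ exists_lift_affine hW₀ al hal fV _ (hmemV n n.2)
  have hψ' : ∀ n : I, ∃ ψ' : Γ(G.left, W₀) →+* Lk, ψ'.comp al = fLk ∧
      Spec.map (CommRingCat.ofHom ψ') ≫ hW₀.fromSpec = (trans u g fLk χLk n).left ∧
      res.comp (ψ n) = emb.comp ψ' := by
    intro n
    obtain ⟨ψ', h1, h2⟩ := exists_lift_affine hW₀ al hal fLk _ (mem_of_extension W₀ emb hLkE _ fun z ↦ by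
      rw [← hYE n]
      exact hmemV n n.2 _)
    refine ⟨ψ', h1, h2, eq_of_spec hW₀ _ _ ?_⟩
    rw [CommRingCat.ofHom_comp, CommRingCat.ofHom_comp, Spec.map_comp, Spec.map_comp, Category.assoc,
      Category.assoc, hψ n, h2]
    exact congrArg (fun z ↦ z.left) (hYE n)
  choose ψ' hψ'α hψ'Y hψ'res using hψ'
  obtain ⟨n₀, hn₀⟩ := hI.nonempty
  obtain ⟨φ, hφα, hφ⟩ := exists_lift_affine hW₀ al hal fL (ptD fL χL ≫ u)
    (mem_of_extension W₀ (σ n₀ : L →+* L) (hσfL n₀) (ptD fL χL ≫ u) fun z ↦ by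
      rw [← hYL n₀]
      exact hmemV n₀ hn₀ _)
  have hσφ : ∀ (n : I) x, σ n (φ x) = (ψ n x : L) := by
    intro n x
    refine DFunLike.congr_fun (eq_of_spec hW₀ ((σ n : L →+* L).comp φ) (V.subtype.comp (ψ n)) ?_) x
    rw [CommRingCat.ofHom_comp, CommRingCat.ofHom_comp, Spec.map_comp, Spec.map_comp, Category.assoc,
      Category.assoc, hψ n, hφ]
    exact congrArg (fun z ↦ z.left) (hYL n).symm
  have hsub : ∀ n : I, ∃ (mm : Fin (S.card + 1)) (e : Fin mm.1 → Fin S.card), r ≤ mm.1 ∧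
      AlgebraicIndependent k ((fun j ↦ ψ' n (a j)) ∘ e) := fun n ↦ by
    haveI := isAlgebraic_adjoin (htop (IntermediateField.adjoin k (Set.range fun j ↦ ψ' n (a j)))
      fun j ↦ mem_adjoin_of_trans u g r₀ hW₀ al hal a ha (ψ' n) (hψ'α n) χLk n (hψ'Y n) (basisChar j))
    obtain ⟨m, e, hrm, he⟩ := exists_indep_subfamily (fun j ↦ ψ' n (a j)) _ hzLk
    have hinj : Function.Injective e := Function.Injective.of_comp he.injective
    have hm : m ≤ S.card := by simpa using Fintype.card_le_of_injective e hinj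
    exact ⟨⟨m, by omega⟩, e, hrm, he⟩
  choose mm ee hrm hind using hsub
  haveI : Infinite I := Set.infinite_coe_iff.mpr hI
  obtain ⟨⟨m, e⟩, hinf'⟩ := Finite.exists_infinite_fiber
    (fun n : I ↦ (⟨mm n, ee n⟩ : Σ m : Fin (S.card + 1), (Fin m.1 → Fin S.card)))
  haveI := hinf'
  let F : ↥((fun n : I ↦ (⟨mm n, ee n⟩ : Σ m : Fin (S.card + 1), (Fin m.1 → Fin S.card))) ⁻¹' {⟨m, e⟩}) → ℕ :=
    fun q ↦ q.1.1
  have hq : ∀ q, r ≤ m.1 ∧ ∃ hy : ∀ l, σ (F q) (φ (a (e l))) ∈ V, ∃ w : Fin m.1 → Lk, AlgebraicIndependent k w ∧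
      ∀ l, IsLocalRing.residue V ⟨σ (F q) (φ (a (e l))), hy l⟩ = emb (w l) := by
    rintro ⟨n, hn⟩
    have hn' : (⟨mm n, ee n⟩ : Σ m : Fin (S.card + 1), (Fin m.1 → Fin S.card)) = ⟨m, e⟩ := hn
    have h1 := hrm n
    have h2 := hind n
    cases hn'
    have hy : ∀ l, σ n (φ (a (ee n l))) ∈ V := fun l ↦ hσφ n _ ▸ (ψ n _).2
    refine ⟨h1, hy, _, h2, fun l ↦ ?_⟩
    show res _ = emb (ψ' n (a (ee n l)))
    rw [← RingHom.comp_apply emb, ← hψ'res n, RingHom.comp_apply]
    congr 1
    exact Subtype.ext (hσφ n _)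
  have hne : Nonempty ↥((fun n : I ↦ (⟨mm n, ee n⟩ : Σ m : Fin (S.card + 1), (Fin m.1 → Fin S.card))) ⁻¹'
      {⟨m, e⟩}) := Infinite.nonempty _
  refine ⟨m.1, fun l ↦ φ (a (e l)), Set.range F, (hq hne.some).1,
    Set.infinite_range_of_injective fun q q' h ↦ Subtype.ext (Subtype.ext h), ?_⟩
  rintro _ ⟨q, rfl⟩
  exact (hq q).2

/-- The characters of a point with extendable image take unit values. -/
theorem isUnit_of_extends {G : Over (Spec (CommRingCat.of R))} [GrpObj G] [LocallyOfFiniteType G.hom]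
    [QuasiCompact G.hom] (u : Red.DS (Spec (CommRingCat.of R)) (Fin r → ℤ) ⟶ G) [IsMonHom u] [Mono u.left]
    (t : Multiplicative (Fin r → ℤ) →* K) (g : PA (RingHom.id R) ⟶ G)
    (hg : gPt g (algebraMap R K) = ptD (algebraMap R K) t ≫ u) (i : Fin r) :
    ∃ a : Rˣ, algebraMap R K a = t (basisChar i) := by
  classical
  let k := IsLocalRing.ResidueField R
  obtain ⟨V, jV, emb, hjV, hemb⟩ := exists_valuation r R K
  let fV : R →+* V := jV.comp (algebraMap R (GA R r))
  have hscL : ∀ b, toGen r K (algebraMap R (GA R r) b) = algebraMap K (FF K r) (algebraMap R K b) := fun b ↦ by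
    simp [MonoidAlgebra.mapRingHom_single, IsScalarTower.algebraMap_apply K (GA K r) (FF K r)]
  have hscS : ∀ b, toSpec r (algebraMap R (GA R r) b) = algebraMap k (FF k r) (IsLocalRing.residue R b) := fun b ↦ by
    simp [k, MonoidAlgebra.mapRingHom_single, IsScalarTower.algebraMap_apply (IsLocalRing.ResidueField R)
      (GA (IsLocalRing.ResidueField R) r) (FF (IsLocalRing.ResidueField R) r)]
  have hVL : V.subtype.comp fV = (algebraMap K (FF K r)).comp (algebraMap R K) :=
    RingHom.ext fun b ↦ (hjV _).trans (hscL b)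
  have hLkE : emb.comp ((algebraMap k (FF k r)).comp (IsLocalRing.residue R)) = (IsLocalRing.residue V).comp fV :=
    RingHom.ext fun b ↦ (congrArg emb (hscS b).symm).trans (hemb _)
  let χV : Multiplicative (Fin r → ℤ) →* V := jV.toMonoidHom.comp (MonoidAlgebra.of R _)
  let χL : Multiplicative (Fin r → ℤ) →* FF K r :=
    (algebraMap (GA K r) (FF K r)).toMonoidHom.comp (MonoidAlgebra.of K _)
  choose σ hσ using fun n : ℕ ↦ exists_twist (r := r) (t ^ n)
  have hσχ : ∀ n m, σ n (χL m) = algebraMap K (FF K r) (t m) ^ n * χL m := fun n m ↦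
    (hσ n m).trans (by rw [MonoidHom.pow_apply, map_pow]; rfl)
  have hχL : ∀ m, (χV m : FF K r) = χL m := fun m ↦ (hjV _).trans (toGen_single m)
  obtain ⟨m, x, J, hrm, hJ, hx⟩ := exists_coordinates u t g hg (IsLocalRing.residue R) V fV hVL emb hLkE χV χL
    ((algebraMap (GA k r) (FF k r)).toMonoidHom.comp (MonoidAlgebra.of k _)) hχL
    (fun m ↦ (hemb _).symm.trans (congrArg emb (toSpec_single m))) top_le_of_basisChar
    (algebraicIndependent_monomials k) σ hσχ
  have hval : ∀ b ∈ IsLocalRing.maximalIdeal R,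
      V.valuation (algebraMap K (FF K r) (algebraMap R K b)) < 1 := by
    intro b hb
    have h : (fV b : FF K r) = algebraMap K (FF K r) (algebraMap R K b) := DFunLike.congr_fun hVL b
    rw [← h]
    refine (V.valuation_lt_one_iff _).mp ?_
    rw [← IsLocalRing.residue_eq_zero_iff]
    show ((IsLocalRing.residue V).comp fV) b = 0
    rw [← hLkE, RingHom.comp_apply, RingHom.comp_apply, (IsLocalRing.residue_eq_zero_iff b).mpr hb,
      map_zero, map_zero]
  have hint := exists_of_valuation_le_one V hval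
  by_contra hno
  have hτ0 : t (basisChar i) ≠ 0 := ((Group.isUnit (basisChar i)).map t).ne_zero
  have hτ : V.valuation (algebraMap K (FF K r) (t (basisChar i))) ≠ 1 := fun h ↦ by
    obtain ⟨b, hb⟩ := hint _ h.le
    obtain ⟨b', hb'⟩ := hint (t (basisChar i))⁻¹ (by rw [map_inv₀, map_inv₀, h, inv_one])
    refine hno ⟨⟨b, b', IsFractionRing.injective R K ?_, IsFractionRing.injective R K ?_⟩, hb⟩
    · rw [map_mul, hb, hb', mul_inv_cancel₀ hτ0, map_one]
    · rw [map_mul, hb, hb', inv_mul_cancel₀ hτ0, map_one]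
  have hzi : V.valuation (χL (basisChar i)) = 1 := by
    rw [← hχL]
    exact (V.valuation_eq_one_iff _).mp ((Group.isUnit (basisChar i)).map χV)
  letI : Algebra k (IsLocalRing.ResidueField V) := (emb.comp (algebraMap k (FF k r))).toAlgebra
  refine false_of_twists _ hzi (t (basisChar i)) hτ0 hτ σ (fun n ↦ hσχ n _) x J hJ (fun n hn ↦ ?_) ?_
  · obtain ⟨hy, w, hw, hres⟩ := hx n hn
    refine uni_of_residue (R := R) (k := k) (IsLocalRing.residue R) Ideal.Quotient.mk_surjective hint ?_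
      (IsLocalRing.residue V) ?_ (fun z hz ↦ (IsLocalRing.residue_ne_zero_iff_isUnit z).mp hz) _ hy ?_
    · intro b hb h0
      have := hval b ((IsLocalRing.residue_eq_zero_iff b).mp h0)
      rw [hb] at this
      exact lt_irrefl _ this
    · intro b h
      have e1 : (⟨algebraMap K (FF K r) (algebraMap R K b), h⟩ : V) = fV b :=
        Subtype.ext (DFunLike.congr_fun hVL b).symm
      rw [e1]
      exact (DFunLike.congr_fun hLkE b).symm
    · let embA : FF k r →ₐ[k] IsLocalRing.ResidueField V := { emb with commutes' := fun _ ↦ rfl }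
      have heq : (fun l : Fin m ↦ IsLocalRing.residue V (⟨σ n (x l), hy l⟩ : V)) = embA ∘ w := funext hres
      show AlgebraicIndependent k (fun l : Fin m ↦ IsLocalRing.residue V (⟨σ n (x l), hy l⟩ : V))
      rw [heq]
      exact hw.map' (f := embA) emb.injective
  · let wL : Fin r → FF K r := fun j ↦ χL (basisChar j)
    haveI : Algebra.IsAlgebraic (Algebra.adjoin K (Set.range wL)) (FF K r) :=
      isAlgebraic_adjoin (top_le_of_basisChar _ fun j ↦ IntermediateField.subset_adjoin K _ ⟨j, rfl⟩)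
    exact not_indep_of_generators wL hrm _

end Groth.Reductive.MonoTorus
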