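import Groth.Agent.Reductive.MTLocTriv
import Groth.Agent.PropsBasic2.MonoFields

/-!
Points of a diagonalisable group and of a group over an affine base with values in algebras.
-/

set_option autoImplicit false
universe u

open CategoryTheory MonoidalCategory CartesianMonoidalCategory MonObj GrpObj AlgebraicGeometry

noncomputable section

namespace Groth.Reductive.MonoTorus

attribute [local instance] algΓ'

variable {R : Type u} [CommRing R] {M : Type} [AddCommGroup M]

/-- `Spec A` over `Spec R`. -/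
abbrev PA {A : Type u} [CommRing A] (f : R →+* A) : Over (Spec (CommRingCat.of R)) :=
  Over.mk (Spec.map (CommRingCat.ofHom f))

/-- The transition map. -/
def pMap {A B : Type u} [CommRing A] [CommRing B] {f : R →+* A} {g : R →+* B} (φ : A →+* B)
    (h : φ.comp f = g) : PA g ⟶ PA f :=
  Over.homMk (Spec.map (CommRingCat.ofHom φ)) (by
    show Spec.map _ ≫ Spec.map _ = Spec.map _
    rw [← Spec.map_comp, ← CommRingCat.ofHom_comp, h])

/-- Global functions on `Spec A`. -/
def pΓ {A : Type u} [CommRing A] (f : R →+* A) : Γ((PA f).left, ⊤) ≃+* A :=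
  (Scheme.ΓSpecIso (CommRingCat.of A)).commRingCatIsoToRingEquiv

lemma pΓ_map {A B : Type u} [CommRing A] [CommRing B] {f : R →+* A} {g : R →+* B} (φ : A →+* B)
    (h : φ.comp f = g) (a : Γ((PA f).left, ⊤)) : pΓ g ((pMap φ h).left.appTop a) = φ (pΓ f a) :=
  ConcreteCategory.congr_hom (Scheme.ΓSpecIso_naturality (CommRingCat.ofHom φ)) a

/-- The point with given character values. -/
def ptD {A : Type u} [CommRing A] (f : R →+* A) (χ : Multiplicative M →* A) : PA f ⟶ Red.DS (Spec (CommRingCat.of R)) M :=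
  dsMk _ ((pΓ f).symm.toRingHom.toMonoidHom.comp χ)

lemma pΓ_dsVal_ptD {A : Type u} [CommRing A] (f : R →+* A) (χ : Multiplicative M →* A)
    (m : Multiplicative M) : pΓ f (dsVal (ptD f χ) m) = χ m := by
  rw [ptD, dsVal_dsMk]
  exact (pΓ f).apply_symm_apply _

/-- The character values of a point. -/
def chiOf {A : Type u} [CommRing A] {f : R →+* A} (x : PA f ⟶ Red.DS (Spec (CommRingCat.of R)) M) : Multiplicative M →* A :=
  (pΓ f).toRingHom.toMonoidHom.comp (dsValHom x)

lemma ptD_chiOf {A : Type u} [CommRing A] {f : R →+* A} (x : PA f ⟶ Red.DS (Spec (CommRingCat.of R)) M) :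
    ptD f (chiOf x) = x := dsVal_ext fun m ↦ (pΓ f).injective (by
  rw [pΓ_dsVal_ptD]
  rfl)

lemma chiOf_ptD {A : Type u} [CommRing A] (f : R →+* A) (χ : Multiplicative M →* A) :
    chiOf (ptD f χ) = χ := MonoidHom.ext fun m ↦ pΓ_dsVal_ptD f χ m

lemma ptD_mul {A : Type u} [CommRing A] (f : R →+* A) (χ χ' : Multiplicative M →* A) :
    ptD f (χ * χ') = ptD f χ * ptD f χ' := dsVal_ext fun m ↦ (pΓ f).injective (by
  rw [dsVal_mul, map_mul, pΓ_dsVal_ptD, pΓ_dsVal_ptD, pΓ_dsVal_ptD]
  rfl)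

lemma ptD_one {A : Type u} [CommRing A] (f : R →+* A) : ptD (M := M) f 1 = 1 := by
  have h := ptD_mul (M := M) f 1 1
  rw [_root_.mul_one] at h
  letI : Group (PA f ⟶ Red.DS (Spec (CommRingCat.of R)) M) := inferInstance
  calc ptD (M := M) f 1 = (ptD f 1)⁻¹ * (ptD f 1 * ptD f 1) := (inv_mul_cancel_left _ _).symm
    _ = 1 := by rw [← h, inv_mul_cancel]

lemma ptD_pow {A : Type u} [CommRing A] (f : R →+* A) (χ : Multiplicative M →* A) (n : ℕ) :
    ptD f (χ ^ n) = ptD f χ ^ n := by
  induction n with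
  | zero => rw [pow_zero, pow_zero, ptD_one]
  | succ n ih => rw [pow_succ, pow_succ, ptD_mul, ih]

lemma pMap_ptD {A B : Type u} [CommRing A] [CommRing B] {f : R →+* A} {g : R →+* B} (φ : A →+* B)
    (h : φ.comp f = g) (χ : Multiplicative M →* A) :
    pMap φ h ≫ ptD f χ = ptD g (φ.toMonoidHom.comp χ) := dsVal_ext fun m ↦ (pΓ g).injective (by
  rw [dsVal_comp, pΓ_map, pΓ_dsVal_ptD, pΓ_dsVal_ptD]
  rfl)

/-- A point through a monomorphism is defined over any subfield over which its image is. -/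
theorem exists_factor_of_mono {G : Over (Spec (CommRingCat.of R))} {T : Over (Spec (CommRingCat.of R))} (u : T ⟶ G) [Mono u.left]
    {E₀ E : Type u} [Field E₀] [Field E] {f₀ : R →+* E₀} {f : R →+* E} (j₀ : E₀ →+* E)
    (h : j₀.comp f₀ = f) (x : PA f ⟶ T) (y : PA f₀ ⟶ G) (hxy : pMap j₀ h ≫ y = x ≫ u) :
    ∃ w : PA f₀ ⟶ T, pMap j₀ h ≫ w = x := by
  let π := Limits.pullback.snd u.left y.left
  let l : (PA f).left ⟶ Limits.pullback u.left y.left :=
    Limits.pullback.lift x.left (pMap j₀ h).left (congrArg (fun z : PA f ⟶ G ↦ z.left) hxy).symm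
  haveI : Nonempty ↥(Limits.pullback u.left y.left) :=
    ⟨l.base (IsLocalRing.closedPoint E : Spec (CommRingCat.of E))⟩
  haveI : IsIso π := Groth.PropsBasic2.MonoFields.isIso_of_mono (K := E₀) π
  let w₀ := CategoryTheory.inv π ≫ Limits.pullback.fst u.left y.left
  have hw : w₀ ≫ u.left = y.left := by
    rw [Category.assoc, Limits.pullback.condition, IsIso.inv_hom_id_assoc]
  let w : PA f₀ ⟶ T := Over.homMk w₀ (by rw [← Over.w u, reassoc_of% hw]; exact Over.w y)
  refine ⟨w, Over.OverMorphism.ext ((cancel_mono u.left).mp ?_)⟩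
  show ((pMap j₀ h).left ≫ w₀) ≫ u.left = _
  rw [Category.assoc, hw]
  exact congrArg (fun z : PA f ⟶ G ↦ z.left) hxy

end Groth.Reductive.MonoTorus
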