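import Groth.Agent.Reductive.MonoTorus.QfNormal
import Groth.Agent.Reductive.BaseChangeMT
import Groth.Agent.Reductive.GenGroup
import Groth.Agent.FlatmorThree.FibreClosedImmersion
import Groth.Agent.SchemeMorphisms.FibreBaseChange
import Groth.Agent.AlgGrp1.Translate

/-!
A normal closed subgroup with a finite fibre is finite near that fibre.
-/

set_option autoImplicit false
universe u

open CategoryTheory MonoidalCategory CartesianMonoidalCategory MonObj GrpObj AlgebraicGeometry

noncomputable section

namespace Groth.Reductive.MonoTorus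

open Groth.Sga3.CommSpread

/-- Over an algebraically closed field a group which is quasi-finite at its unit is finite as a set. -/
theorem finite_of_qf_unit {Ω : Type u} [Field Ω] [IsAlgClosed Ω] (X : Over (Spec (CommRingCat.of Ω))) [GrpObj X]
    [LocallyOfFiniteType X.hom] [QuasiCompact X.hom] (x : ↥(𝟙_ (Over (Spec (CommRingCat.of Ω)))).left)
    (h : X.hom.QuasiFiniteAt (η[X].left x)) : Finite X.left := by
  haveI : JacobsonSpace X.left := LocallyOfFiniteType.jacobsonSpace X.hom
  haveI : CompactSpace X.left := QuasiCompact.compactSpace_of_compactSpace X.hom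
  let e := η[X].left x
  have he : IsOpen ({e} : Set X.left) := by
    have hu : Set.range (X.hom.fiberι (X.hom e)) = Set.univ := by
      rw [Scheme.Hom.range_fiberι]
      exact Set.eq_univ_of_forall fun y => Subsingleton.elim (α := ↥(Spec (CommRingCat.of Ω))) _ _
    have hemb : Topology.IsOpenEmbedding (X.hom.fiberι (X.hom e)) :=
      ⟨(X.hom.fiberι _).isEmbedding, hu ▸ isOpen_univ⟩
    have := hemb.isOpenMap _ (Scheme.Hom.quasiFiniteAt_iff_isOpen_singleton_asFiber.mp h)
    rwa [Set.image_singleton, Scheme.Hom.fiberι_asFiber] at this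
  have hec : IsClosed ({e} : Set X.left) := isClosed_singleton_of_isLocallyClosed_singleton he.isLocallyClosed
  have hall : ∀ y : X.left, IsClosed {y} → IsOpen ({y} : Set X.left) := fun y hy => by
    obtain ⟨φ, hφ⟩ := Groth.AlgGrp1.exists_translation X e y hec hy
    haveI : IsIso φ.hom.left := inferInstanceAs (IsIso ((Over.forget _).map φ.hom))
    have := φ.hom.left.isOpenEmbedding.isOpenMap _ he
    rw [Set.image_singleton] at this
    rwa [← hφ]
  have hC : closedPoints X.left = Set.univ := by
    have ho : IsOpen (closedPoints X.left) := by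
      rw [← (closedPoints X.left).biUnion_of_singleton]
      exact isOpen_biUnion hall
    by_contra hne
    obtain ⟨y, hy1, hy2⟩ := nonempty_inter_closedPoints (Set.nonempty_compl.mpr hne)
      ho.isClosed_compl.isLocallyClosed
    exact hy1 hy2
  haveI : DiscreteTopology X.left := discreteTopology_iff_isOpen_singleton.mpr fun y =>
    hall y (hC.ge (Set.mem_univ y))
  exact finite_of_compact_of_discrete

variable {S : Scheme.{u}} {G K Z : Over S} [GrpObj G] [GrpObj K] [GrpObj Z]

/-- A fibre of a group which is quasi-finite at the unit is finite. -/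
theorem finite_fibre_of_qf_unit [LocallyOfFiniteType K.hom] [QuasiCompact K.hom] (t : S)
    (h : K.hom.QuasiFiniteAt (η[K].left t)) : (K.hom ⁻¹' {t}).Finite := by
  let ψ := Red.geomPt t
  haveI : LocallyOfFiniteType (Red.bc ψ K).hom := MorphismProperty.pullback_snd _ _ ‹_›
  haveI : QuasiCompact (Red.bc ψ K).hom := MorphismProperty.pullback_snd _ _ ‹_›
  let pt : ↥(Spec (CommRingCat.of (AlgebraicClosure (S.residueField t)))) := IsLocalRing.closedPoint _
  have hψ : ψ pt = t := by
    simp only [ψ, Red.geomPt, Scheme.Hom.comp_apply]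
    apply Scheme.fromSpecResidueField_apply
  have he : η[Red.bc ψ K].left ≫ Limits.pullback.fst K.hom ψ = ψ ≫ η[K].left := by
    have h1 : (adj ψ).symm η[Red.bc ψ K] = 1 := by
      have : η[Red.bc ψ K] = 1 := by rw [Hom.one_def, toUnit_unique (toUnit (𝟙_ _)) (𝟙 _), Category.id_comp]
      rw [this]
      exact map_one (adjGrp ψ _ K).symm
    rw [← adj_symm_left, h1, Hom.one_def, Over.comp_left]
    exact congr($(Category.id_comp ψ) ≫ η[K].left)
  haveI : Finite (Red.bc ψ K).left := by
    refine finite_of_qf_unit (Red.bc ψ K) pt ?_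
    rw [Groth.SchemeMorphisms.quasiFiniteAt_baseChange_iff K.hom ψ (Limits.pullback.fst K.hom ψ) (Red.bc ψ K).hom
      (IsPullback.of_hasPullback K.hom ψ)]
    rw [← Scheme.Hom.comp_apply]
    erw [he]
    show K.hom.QuasiFiniteAt (η[K].left (ψ pt))
    rwa [hψ]
  haveI : Finite ↥(Limits.pullback K.hom ψ) := ‹Finite (Red.bc ψ K).left›
  refine (Set.finite_range (Limits.pullback.fst K.hom ψ)).subset ?_
  rw [Scheme.Pullback.range_fst]
  exact Set.preimage_mono (Set.singleton_subset_iff.mpr ⟨pt, hψ⟩)

variable [Smooth G.hom] [IsSeparated G.hom] (k : K ⟶ G) [IsMonHom k] [IsClosedImmersion k.left]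
  [LocallyOfFiniteType K.hom] [QuasiCompact K.hom]

/-- A normal closed subgroup with a finite fibre at `s` is finite near `s`. -/
theorem exists_nhd_isFinite (hconn : ∀ s : S, _root_.IsConnected (G.hom.base ⁻¹' {s}))
    {j : Z ⟶ G} (hZ : Red.IsCentre j) (hZm : SGA3x.IsMultTypeFT Z) (hKn : AlgGrp.IsNormalHom k)
    (s : S) (hs : IsFinite (Red.bc (S.fromSpecResidueField s) K).hom) :
    ∃ U : S.Opens, s ∈ U ∧ IsFinite (Red.bc U.ι K).hom := by
  let U : S.Opens := η[K].left ⁻¹ᵁ K.hom.quasiFiniteLocus
  have hsU : s ∈ U := by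
    show K.hom.QuasiFiniteAt (η[K].left s)
    haveI : IsFinite (K.hom.fiberToSpecResidueField s) := hs
    have hes : K.hom (η[K].left s) = s := congr($(Over.w η[K]) s)
    haveI : IsFinite (K.hom.fiberToSpecResidueField (K.hom (η[K].left s))) := by rw [hes]; assumption
    have hf := (K.hom.fiberToSpecResidueField (K.hom (η[K].left s))).finite_preimage_singleton
      (IsLocalRing.closedPoint _)
    haveI : Finite (K.hom.fiber (K.hom (η[K].left s))) := Set.finite_univ_iff.mp
      (hf.subset fun y _ => Subsingleton.elim (α := ↥(Spec (S.residueField _))) _ _)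
    haveI : JacobsonSpace (K.hom.fiber (K.hom (η[K].left s))) :=
      LocallyOfFiniteType.jacobsonSpace (K.hom.fiberToSpecResidueField _)
    exact Scheme.Hom.quasiFiniteAt_iff_isOpen_singleton_asFiber.mpr (isOpen_discrete _)
  refine ⟨U, hsU, ?_⟩
  haveI : Smooth (Red.bc U.ι G).hom := MorphismProperty.pullback_snd _ _ ‹_›
  haveI : IsSeparated (Red.bc U.ι G).hom := MorphismProperty.pullback_snd _ _ ‹_›
  haveI : LocallyOfFiniteType (Red.bc U.ι K).hom := MorphismProperty.pullback_snd _ _ ‹_›
  haveI : QuasiCompact (Red.bc U.ι K).hom := MorphismProperty.pullback_snd _ _ ‹_›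
  haveI : IsMonHom ((Over.pullback U.ι).map k) := Groth.Abvar.isMonHom_map k
  haveI : IsClosedImmersion ((Over.pullback U.ι).map k).left :=
    MorphismProperty.of_isPullback (Groth.Reductive.GenGroup.isPullback_map_left U.ι k) ‹_›
  haveI : LocallyQuasiFinite (Red.bc U.ι K).hom := .of_finite_preimage_singleton _ fun t => by
    refine ((finite_fibre_of_qf_unit (K := K) t.1 t.2).preimage
      (Limits.pullback.fst K.hom U.ι).isOpenEmbedding.injective.injOn).subset fun y hy => ?_
    show (Limits.pullback.fst K.hom U.ι ≫ K.hom) y = t.1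
    rw [Limits.pullback.condition, Scheme.Hom.comp_apply]
    exact congrArg U.ι hy
  have hconn' : ∀ t : (U : Scheme.{u}), _root_.IsConnected ((Red.bc U.ι G).hom.base ⁻¹' {t}) := fun t => by
    let p := Limits.pullback.fst G.hom U.ι
    have himg : p '' ((Red.bc U.ι G).hom ⁻¹' {t}) = G.hom ⁻¹' {U.ι t} := by
      ext x
      constructor
      · rintro ⟨y, hy, rfl⟩
        show (p ≫ G.hom) y = _
        rw [Limits.pullback.condition, Scheme.Hom.comp_apply]
        exact congrArg U.ι hy
      · intro hx
        obtain ⟨y, h1, h2⟩ := Scheme.Pullback.exists_preimage_pullback x t hx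
        exact ⟨y, h2, h1⟩
    have hc := hconn (U.ι t)
    have hpc := p.isOpenEmbedding.isInducing.isPreconnected_image (s := (Red.bc U.ι G).hom ⁻¹' {t})
    rw [himg] at hpc
    refine ⟨Set.Nonempty.of_image (f := p) ?_, hpc.mp hc.2⟩
    rw [himg]; exact hc.1
  have hZ' : Red.IsCentre ((Over.pullback U.ι).map j) := by
    have := Groth.Reductive.CentTorusMax.isCentralizerOf_bc U.ι hZ
    rwa [CategoryTheory.Functor.map_id] at this
  exact isFinite_of_normal ((Over.pullback U.ι).map k) hconn' hZ'
    (Groth.Reductive.FreeDiag.isMultTypeFT_bc hZm U.ι) (isNormalHom_bc U.ι k hKn)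

/-- A normal closed subgroup with a trivial fibre at `s` is trivial near `s`. -/
theorem exists_nhd_isTrivialGrp (hconn : ∀ s : S, _root_.IsConnected (G.hom.base ⁻¹' {s}))
    {j : Z ⟶ G} (hZ : Red.IsCentre j) (hZm : SGA3x.IsMultTypeFT Z) (hKn : AlgGrp.IsNormalHom k)
    (s : S) (hs : Red.IsTrivialGrp (Red.bc (S.fromSpecResidueField s) K)) :
    ∃ U : S.Opens, s ∈ U ∧ Red.IsTrivialGrp (Red.bc U.ι K) := by
  haveI : IsIso (Red.bc (S.fromSpecResidueField s) K).hom := hs
  obtain ⟨U, hsU, hU⟩ := exists_nhd_isFinite k hconn hZ hZm hKn s inferInstance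
  have hu : UniversallyClosed (K.hom ∣_ U) := by
    rw [Groth.FlatmorThree.FibreCI.snd_ι_iff @UniversallyClosed]
    exact (inferInstance : UniversallyClosed (Red.bc U.ι K).hom)
  obtain ⟨V, hsV, hV⟩ := Groth.FlatmorThree.FibreCI.exists_of_universallyClosed K.hom s
    (inferInstanceAs (IsClosedImmersion (Red.bc (S.fromSpecResidueField s) K).hom)) U hsU hu
  haveI : IsClosedImmersion (Red.bc V.ι K).hom :=
    (Groth.FlatmorThree.FibreCI.snd_ι_iff @IsClosedImmersion K.hom V).mp hV
  haveI : IsSplitEpi (Red.bc V.ι K).hom := ⟨⟨⟨η[Red.bc V.ι K].left, Over.w η[Red.bc V.ι K]⟩⟩⟩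
  exact ⟨V, hsV, isIso_of_mono_of_isSplitEpi _⟩

end Groth.Reductive.MonoTorus
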