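import Groth.Agent.Reductive.MonoTorus.KerEq
import Groth.Agent.Reductive.SelfCentNhd
import Groth.Agent.Reductive.MTCrit.Torsion
import Groth.Agent.Reductive.CentTorusMax
import Groth.Agent.AlgGrp1.SmoothReduced
import Groth.Agent.Sga3.CommSpread.Adj
import Groth.Agent.S3025
import Mathlib.AlgebraicGeometry.AlgClosed.Basic
import Mathlib.AlgebraicGeometry.ZariskisMainTheorem

/-!
Quasi-finite normal closed subgroups of smooth groups with connected fibres: they are central on field valued
points, hence finite when the centre is of multiplicative type.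
-/

set_option autoImplicit false
universe u

open CategoryTheory MonoidalCategory CartesianMonoidalCategory MonObj GrpObj AlgebraicGeometry

noncomputable section

namespace Groth.Reductive.MonoTorus

open Groth.Sga3.CommSpread

section Field

variable {Ω : Type u} [Field Ω] [IsAlgClosed Ω] {G K : Over (Spec (CommRingCat.of Ω))} [GrpObj G] [GrpObj K]

/-- Over an algebraically closed field, the points of a discrete normal subgroup of a connected reduced group are
central. -/
theorem commute_of_discrete_normal [IsReduced G.left] [ConnectedSpace G.left] [LocallyOfFiniteType G.hom]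
    [DiscreteTopology K.left] [IsSeparated K.hom] [LocallyOfFiniteType K.hom]
    (k : K ⟶ G) [IsMonHom k] [Mono k] (hKn : AlgGrp.IsNormalHom k) (x : 𝟙_ _ ⟶ K)
    {X : Over (Spec (CommRingCat.of Ω))} (h : X ⟶ G) :
    Commute h (toUnit X ≫ x ≫ k) := by
  obtain ⟨n', hn'⟩ := hKn G (𝟙 G) (toUnit G ≫ x)
  have hone : η[G] ≫ n' = x := by
    have h1 : η[G] ≫ 𝟙 G = 1 := by
      rw [Category.comp_id, Hom.one_def, toUnit_unique (toUnit (𝟙_ _)) (𝟙 _), Category.id_comp]
    rw [← cancel_mono k, Category.assoc, ← hn', MonObj.comp_mul, MonObj.comp_mul, GrpObj.comp_inv, h1,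
      _root_.one_mul, inv_one, _root_.mul_one, Category.assoc, ← Category.assoc η[G],
      toUnit_unique (η[G] ≫ toUnit G) (𝟙 _), Category.id_comp]
  have hn : n' = toUnit G ≫ x := by
    ext : 1
    haveI : LocallyOfFiniteType (n'.left ≫ K.hom) := by rw [Over.w n']; infer_instance
    refine ext_of_apply_eq K.hom Set.univ isClosed_univ.isLocallyClosed dense_univ ?_
      (by rw [Over.w n', Over.w (toUnit G ≫ x)])
    intro y _ _
    haveI : Unique ↥(𝟙_ (Over (Spec (CommRingCat.of Ω)))).left :=
      inferInstanceAs (Unique ↥(Spec (CommRingCat.of Ω)))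
    let e : G.left := η[G].left default
    rw [PreconnectedSpace.constant inferInstance n'.left.continuous (x := y) (y := e)]
    have h2 : n'.left e = x.left default := by rw [← hone]; rfl
    rw [h2]
    exact congrArg x.left (Subsingleton.elim _ _)
  have h3 := congrArg (fun t => h ≫ t) hn'
  simp only [hn, MonObj.comp_mul, GrpObj.comp_inv, Category.comp_id, Category.assoc] at h3
  rw [← Category.assoc h, toUnit_unique (h ≫ toUnit G) (toUnit X)] at h3
  exact mul_inv_eq_iff_eq_mul.mp h3

end Field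

variable {S : Scheme.{u}} {G K Z : Over S} [GrpObj G] [GrpObj K] [GrpObj Z] [Smooth G.hom] [IsSeparated G.hom]
  (k : K ⟶ G) [IsMonHom k] [IsClosedImmersion k.left]

/-- Field valued points of a quasi-finite normal closed subgroup lie in the centre. -/
theorem exists_lift_centre (hconn : ∀ s : S, _root_.IsConnected (G.hom.base ⁻¹' {s}))
    {j : Z ⟶ G} (hZ : Red.IsCentre j) (hKn : AlgGrp.IsNormalHom k)
    [LocallyQuasiFinite K.hom] [LocallyOfFiniteType K.hom]
    {Ω : Type u} [Field Ω] [IsAlgClosed Ω] (ψ : Spec (CommRingCat.of Ω) ⟶ S)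
    (x : push ψ (𝟙_ (Over (Spec (CommRingCat.of Ω)))) ⟶ K) :
    ∃ z : push ψ (𝟙_ (Over (Spec (CommRingCat.of Ω)))) ⟶ Z, z ≫ j = x ≫ k := by
  let P := Over.pullback ψ
  haveI : IsSeparated K.hom := by rw [← Over.w k]; infer_instance
  haveI : Mono k := Over.mono_of_mono_left k
  haveI : Smooth (Red.bc ψ G).hom := MorphismProperty.pullback_snd _ _ ‹_›
  haveI : IsReduced (Red.bc ψ G).left := Groth.AlgGrp1.isReduced_of_smooth (Red.bc ψ G).hom
  haveI : ConnectedSpace ↥(Red.bc ψ G).left := Groth.Reductive.RedRank.connectedSpace_geomFibre hconn ψ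
  haveI : LocallyQuasiFinite (Red.bc ψ K).hom := MorphismProperty.pullback_snd _ _ ‹_›
  haveI : IsSeparated (Red.bc ψ K).hom := MorphismProperty.pullback_snd _ _ ‹_›
  haveI : LocallyOfFiniteType (Red.bc ψ K).hom := MorphismProperty.pullback_snd _ _ ‹_›
  haveI : DiscreteTopology (Red.bc ψ K).left := by
    rw [← isDiscrete_univ_iff]
    have h := (Red.bc ψ K).hom.isDiscrete_preimage_singleton (IsLocalRing.closedPoint Ω)
    have e : (Red.bc ψ K).hom ⁻¹' {IsLocalRing.closedPoint Ω} = Set.univ :=
      Set.eq_univ_of_forall fun y => Subsingleton.elim (α := ↥(Spec (CommRingCat.of Ω))) _ _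
    exact e ▸ h
  haveI : IsMonHom (P.map k) := Groth.Abvar.isMonHom_map k
  have hc := Groth.Reductive.CentTorusMax.isCentralizerOf_bc ψ hZ
  obtain ⟨z, hz⟩ := (hc.2.2 _ (adj ψ x ≫ P.map k)).2 fun X' a h => by
    rw [toUnit_unique a (toUnit X')]
    exact (commute_of_discrete_normal (P.map k) (isNormalHom_bc ψ k hKn) (adj ψ x) _).symm.eq
  refine ⟨(adj ψ).symm z, (adj ψ).injective ?_⟩
  rw [adj_comp, adj_comp, Equiv.apply_symm_apply, hz]

theorem finite_points [LocallyQuasiFinite K.hom] [QuasiCompact K.hom] [LocallyOfFiniteType K.hom]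
    {Ω : Type u} [Field Ω] [IsAlgClosed Ω] (ψ : Spec (CommRingCat.of Ω) ⟶ S) :
    Finite (push ψ (𝟙_ (Over (Spec (CommRingCat.of Ω)))) ⟶ K) := by
  haveI : LocallyQuasiFinite (Red.bc ψ K).hom := MorphismProperty.pullback_snd _ _ ‹_›
  haveI : QuasiCompact (Red.bc ψ K).hom := MorphismProperty.pullback_snd _ _ ‹_›
  haveI : LocallyOfFiniteType (Red.bc ψ K).hom := MorphismProperty.pullback_snd _ _ ‹_›
  haveI : Finite (Red.bc ψ K).left := by
    rw [← Set.finite_univ_iff]
    have h := (Red.bc ψ K).hom.finite_preimage_singleton (IsLocalRing.closedPoint Ω)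
    have e : (Red.bc ψ K).hom ⁻¹' {IsLocalRing.closedPoint Ω} = Set.univ :=
      Set.eq_univ_of_forall fun y => Subsingleton.elim (α := ↥(Spec (CommRingCat.of Ω))) _ _
    exact e ▸ h
  haveI : Finite {p : Spec (CommRingCat.of Ω) ⟶ (Red.bc ψ K).left // p ≫ (Red.bc ψ K).hom = 𝟙 _} :=
    Finite.of_equiv _ (pointEquivClosedPoint (Red.bc ψ K).hom).symm
  exact Finite.of_injective (fun a => (⟨(adj ψ a).left, Over.w (adj ψ a)⟩ :
      {p : Spec (CommRingCat.of Ω) ⟶ (Red.bc ψ K).left // p ≫ (Red.bc ψ K).hom = 𝟙 _}))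
    fun a b hab => (adj ψ).injective (Over.OverMorphism.ext congr($(hab).1))

/-- A quasi-finite normal closed subgroup of a smooth group with connected fibres and centre of multiplicative type
is finite. -/
theorem isFinite_of_normal (hconn : ∀ s : S, _root_.IsConnected (G.hom.base ⁻¹' {s}))
    {j : Z ⟶ G} (hZ : Red.IsCentre j) (hZm : SGA3x.IsMultTypeFT Z) (hKn : AlgGrp.IsNormalHom k)
    [LocallyOfFiniteType K.hom] [QuasiCompact K.hom] [LocallyQuasiFinite K.hom] : IsFinite K.hom := by
  haveI : IsSeparated K.hom := by rw [← Over.w k]; infer_instance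
  haveI : Mono k := Over.mono_of_mono_left k
  haveI : IsMonHom j := hZ.1
  haveI : Mono j := hZ.2.1
  suffices hex : ValuativeCriterion.Existence K.hom by
    haveI : UniversallyClosed K.hom := UniversallyClosed.of_valuativeCriterion _ hex
    haveI : IsProper K.hom := { }
    exact IsFinite.of_isProper_of_locallyQuasiFinite K.hom
  rintro ⟨R, F, i₁, i₂, ⟨w⟩⟩
  let a : Spec (CommRingCat.of F) ⟶ Spec (CommRingCat.of R) := Spec.map (CommRingCat.ofHom (algebraMap R F))
  let B : Over S := Over.mk i₂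
  let P : Over S := Over.mk (a ≫ i₂)
  let x : P ⟶ K := Over.homMk i₁ w
  let m : P ⟶ B := Over.homMk a rfl
  let Ω := AlgebraicClosure F
  let q : Spec (CommRingCat.of Ω) ⟶ Spec (CommRingCat.of F) := Spec.map (CommRingCat.ofHom (algebraMap F Ω))
  let ψ : Spec (CommRingCat.of Ω) ⟶ S := q ≫ P.hom
  let c : push ψ (𝟙_ (Over (Spec (CommRingCat.of Ω)))) ⟶ P := Over.homMk q (Category.id_comp _).symm
  haveI : Flat q := inferInstance
  haveI : Surjective q := inferInstance
  haveI : Flat c.left := ‹Flat q›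
  haveI : Surjective c.left := ‹Surjective q›
  haveI : QuasiCompact c.left := (inferInstance : QuasiCompact q)
  haveI : Epi c.left := Flat.epi_of_flat_of_surjective c.left
  haveI : Epi c := Over.epi_of_epi_left c
  obtain ⟨zΩ, hzΩ⟩ := exists_lift_centre k hconn hZ hKn ψ (c ≫ x)
  obtain ⟨z, hz⟩ := exists_desc_qc c zΩ fun T u v huv => by
    rw [← cancel_mono j, Category.assoc, Category.assoc, hzΩ, Category.assoc, reassoc_of% huv]
  have hzj : z ≫ j = x ≫ k := by
    rw [← cancel_epi c, reassoc_of% hz, hzΩ, Category.assoc]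
  haveI := finite_points (K := K) ψ
  obtain ⟨n, hn, hxn⟩ := (isOfFinOrder_of_finite (c ≫ x)).exists_pow_eq_one
  have hzn : z ^ n = 1 := by
    rw [← cancel_mono j, MonObj.pow_comp, hzj, ← MonObj.pow_comp]
    have : x ^ n = 1 := by rw [← cancel_epi c, MonObj.comp_pow, hxn, MonObj.comp_one]
    rw [this, MonObj.one_comp, MonObj.one_comp]
  let p := Limits.pullback.fst (𝟙 Z ^ n : Z ⟶ Z).left η[Z].left ≫ Z.hom
  haveI : IsFinite p := Groth.Reductive.MTCrit.isFinite_kernel_pow hZm hn
  have hp : ValuativeCriterion.Existence p := by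
    have h : UniversallyClosed p := inferInstance
    rw [UniversallyClosed.eq_valuativeCriterion] at h
    exact h.1
  have hw0 : z.left ≫ (𝟙 Z ^ n : Z ⟶ Z).left = P.hom ≫ η[Z].left := by
    rw [← Over.comp_left, MonObj.comp_pow, Category.comp_id, hzn, Hom.one_def, Over.comp_left]
    rfl
  let w0 : Spec (CommRingCat.of F) ⟶ Limits.pullback (𝟙 Z ^ n : Z ⟶ Z).left η[Z].left :=
    Limits.pullback.lift z.left P.hom hw0
  obtain ⟨⟨⟨l, hl1, hl2⟩⟩⟩ := hp ⟨R, F, w0, i₂, ⟨by
    simp only [w0, p, Limits.pullback.lift_fst_assoc]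
    exact Over.w z⟩⟩
  let zR : B ⟶ Z := Over.homMk (l ≫ Limits.pullback.fst _ _) (by
    rw [Category.assoc]; exact hl2)
  have hmz : m ≫ zR = z := by
    ext : 1
    show a ≫ l ≫ Limits.pullback.fst _ _ = z.left
    rw [← Category.assoc, hl1, Limits.pullback.lift_fst]
  let g : B ⟶ G := zR ≫ j
  let s := Limits.pullback.snd k.left g.left
  haveI : IsClosedImmersion s := MorphismProperty.pullback_snd _ _ ‹_›
  have hfac : Limits.pullback.lift i₁ a (congr(($(show x ≫ k = m ≫ g by
      rw [← hzj, ← hmz, Category.assoc])).left)) ≫ s = a := Limits.pullback.lift_snd _ _ _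
  haveI : Surjective s := by
    have hd : DenseRange a := (PrimeSpectrum.denseRange_comap_iff_ker_le_nilRadical (f := algebraMap R F)).mpr (by
      rw [(RingHom.injective_iff_ker_eq_bot _).mp (IsFractionRing.injective R F)]
      exact bot_le)
    refine ⟨Set.range_eq_univ.mp (Set.eq_univ_of_univ_subset ?_)⟩
    rw [← hd.closure_range]
    refine closure_minimal ?_ s.isClosedEmbedding.isClosed_range
    rintro _ ⟨y, rfl⟩
    exact ⟨_, congr($(hfac) y)⟩
  haveI : IsReduced B.left := inferInstanceAs (IsReduced (Spec (CommRingCat.of R)))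
  haveI : IsIso s := isIso_of_isClosedImmersion_of_surjective s
  refine ⟨⟨⟨inv s ≫ Limits.pullback.fst _ _, ?_, ?_⟩⟩⟩
  · show a ≫ inv s ≫ _ = i₁
    rw [← hfac, Category.assoc, IsIso.hom_inv_id_assoc, Limits.pullback.lift_fst]
  · show (inv s ≫ Limits.pullback.fst k.left g.left) ≫ K.hom = i₂
    conv_lhs => rw [← Over.w k]
    rw [Category.assoc, Limits.pullback.condition_assoc, IsIso.inv_hom_id_assoc]
    exact Over.w g

end Groth.Reductive.MonoTorus
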