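import Groth.Agent.Reductive.MonoTorus.Points
import Groth.Agent.Reductive.MonoTorus.Algebra
import Mathlib.FieldTheory.IntermediateField.Adjoin.Basic
import Mathlib.RingTheory.Valuation.LocalSubring

/-!
A point of a split torus over the fraction field of a valuation ring whose image under a
monomorphism extends over the valuation ring extends itself.
-/

set_option autoImplicit false
universe u

open CategoryTheory MonoidalCategory CartesianMonoidalCategory MonObj GrpObj AlgebraicGeometry

noncomputable section

namespace Groth.Reductive.MonoTorus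

attribute [local instance] algΓ'

variable {r : ℕ}

/-- The basic characters. -/
def basisChar (i : Fin r) : Multiplicative (Fin r → ℤ) := Multiplicative.ofAdd (Pi.single i 1)

lemma eq_prod_basisChar (m : Multiplicative (Fin r → ℤ)) :
    m = ∏ i, basisChar i ^ (Multiplicative.toAdd m i) := by
  apply Multiplicative.toAdd.injective
  rw [toAdd_prod]
  funext j
  simp [basisChar, Finset.sum_apply, Pi.single_apply]

/-- Characters are determined by their values on the basic characters, inside any subfield. -/
lemma mem_of_basisChar {E : Type*} [Field E] {k : Type*} [Field k] [Algebra k E]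
    (F : IntermediateField k E) (χ : Multiplicative (Fin r → ℤ) →* E)
    (h : ∀ i, χ (basisChar i) ∈ F) (m : Multiplicative (Fin r → ℤ)) : χ m ∈ F := by
  rw [eq_prod_basisChar m, map_prod]
  refine prod_mem fun i _ ↦ ?_
  have e : χ (basisChar i ^ Multiplicative.toAdd m i) = χ (basisChar i) ^ Multiplicative.toAdd m i := by
    cases Multiplicative.toAdd m i with
    | ofNat n => simp
    | negSucc n =>
      rw [zpow_negSucc, zpow_negSucc]
      refine eq_inv_of_mul_eq_one_left ?_
      rw [← map_pow, ← map_mul, inv_mul_cancel, map_one]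
  rw [e]
  exact zpow_mem (h i) _

/-- A field generated as a field is algebraic over the generated algebra. -/
lemma isAlgebraic_adjoin {k E : Type*} [Field k] [Field E] [Algebra k E] {S : Set E}
    (h : IntermediateField.adjoin k S = ⊤) : Algebra.IsAlgebraic (Algebra.adjoin k S) E := by
  refine ⟨fun x ↦ ?_⟩
  obtain ⟨a, ha, b, hb, rfl⟩ := IntermediateField.mem_adjoin_iff_div.mp (h ▸ IntermediateField.mem_top : x ∈ _)
  by_cases hb0 : b = 0
  · rw [hb0, div_zero]
    exact isAlgebraic_zero
  · refine ⟨Polynomial.C (⟨b, hb⟩ : Algebra.adjoin k S) * Polynomial.X - Polynomial.C ⟨a, ha⟩,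
      fun h0 ↦ hb0 ?_, ?_⟩
    · have := congrArg (fun p ↦ p.coeff 1) h0
      simp at this
      exact congrArg Subtype.val this
    · rw [map_sub, map_mul, Polynomial.aeval_C, Polynomial.aeval_C, Polynomial.aeval_X]
      show b * (a / b) - a = 0
      rw [mul_div_cancel₀ _ hb0, sub_self]

/-- The basic monomials are algebraically independent. -/
lemma algebraicIndependent_monomials (k : Type u) [Field k] :
    AlgebraicIndependent k fun i : Fin r ↦ algebraMap (MonoidAlgebra k (Multiplicative (Fin r → ℤ)))
      (FractionRing (MonoidAlgebra k (Multiplicative (Fin r → ℤ)))) (MonoidAlgebra.single (basisChar i) 1) := by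
  classical
  refine (?_ : AlgebraicIndependent k fun i : Fin r ↦
    (MonoidAlgebra.single (basisChar i) 1 : MonoidAlgebra k (Multiplicative (Fin r → ℤ)))).map'
    (f := IsScalarTower.toAlgHom k _ _) (IsFractionRing.injective _ _)
  rw [algebraicIndependent_iff]
  intro p hp
  let gam : (Fin r →₀ ℕ) → Multiplicative (Fin r → ℤ) := fun d ↦ Multiplicative.ofAdd fun i ↦ (d i : ℤ)
  have hgam : Function.Injective gam := fun d d' e ↦ Finsupp.ext fun i ↦ by
    have := congrFun (Multiplicative.ofAdd.injective e) i
    exact_mod_cast this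
  have hmon : ∀ d c, MvPolynomial.aeval (fun i : Fin r ↦
      (MonoidAlgebra.single (basisChar i) 1 : MonoidAlgebra k (Multiplicative (Fin r → ℤ))))
      (MvPolynomial.monomial d c) = MonoidAlgebra.single (gam d) c := fun d c ↦ by
    have e : gam d = ∏ i, basisChar i ^ d i := by
      rw [eq_prod_basisChar (gam d)]
      exact Finset.prod_congr rfl fun i _ ↦ by simp [gam]
    rw [MvPolynomial.aeval_monomial, Finsupp.prod_fintype _ _ (fun i ↦ pow_zero _), e]
    simp only [MonoidAlgebra.single_pow, one_pow]
    rw [show ∏ i, (MonoidAlgebra.single (basisChar i ^ d i) 1 : MonoidAlgebra k (Multiplicative (Fin r → ℤ))) =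
      MonoidAlgebra.single (∏ i, basisChar i ^ d i) 1 from
        (map_prod (MonoidAlgebra.of k (Multiplicative (Fin r → ℤ))) (fun i ↦ basisChar i ^ d i) _).symm]
    show MonoidAlgebra.single 1 c * MonoidAlgebra.single _ 1 = _
    rw [MonoidAlgebra.single_mul_single, _root_.one_mul, _root_.mul_one]
  rw [p.as_sum, map_sum] at hp
  ext d
  rw [MvPolynomial.coeff_zero]
  by_contra hd
  have h := congrArg (fun z : MonoidAlgebra k (Multiplicative (Fin r → ℤ)) ↦ z.coeff (gam d)) hp
  simp only [hmon, MonoidAlgebra.coeff_sum, Finsupp.finsetSum_apply, MonoidAlgebra.coeff_single,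
    Finsupp.single_apply, hgam.eq_iff, Finset.sum_ite_eq', MvPolynomial.mem_support_iff] at h
  rw [if_pos hd] at h
  exact hd (by simpa using h)

variable {R : Type u} [CommRing R] [IsDomain R] [ValuationRing R] {K : Type u} [Field K] [Algebra R K]
  [IsFractionRing R K]

/-- The group algebra of the basic lattice. -/
abbrev GA (A : Type u) [CommRing A] (r : ℕ) := MonoidAlgebra A (Multiplicative (Fin r → ℤ))

/-- Its function field over a field. -/
abbrev FF (k : Type u) [Field k] (r : ℕ) := FractionRing (GA k r)

variable (r) in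
/-- Reduction to the special fibre. -/
abbrev toSpec : GA R r →+* FF (IsLocalRing.ResidueField R) r :=
  (algebraMap (GA (IsLocalRing.ResidueField R) r) _).comp
    (MonoidAlgebra.mapRingHom _ (IsLocalRing.residue R))

variable (r K) in
/-- Inclusion in the generic fibre. -/
abbrev toGen : GA R r →+* FF K r :=
  (algebraMap (GA K r) _).comp (MonoidAlgebra.mapRingHom _ (algebraMap R K))

lemma toGen_injective : Function.Injective (toGen r K (R := R)) := by
  refine (IsFractionRing.injective (GA K r) (FF K r)).comp fun a b e ↦ MonoidAlgebra.ext (Finsupp.ext fun m ↦ ?_)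
  have h := congrArg (fun z : GA K r ↦ z.coeff m) e
  exact IsFractionRing.injective R K (by simpa using h)

lemma toGen_single (m : Multiplicative (Fin r → ℤ)) :
    toGen r K (MonoidAlgebra.single m (1 : R)) = algebraMap (GA K r) (FF K r) (MonoidAlgebra.single m 1) := by
  simp [MonoidAlgebra.mapRingHom_single]

lemma toSpec_single (m : Multiplicative (Fin r → ℤ)) :
    toSpec (R := R) r (MonoidAlgebra.single m (1 : R)) =
      algebraMap (GA (IsLocalRing.ResidueField R) r) _ (MonoidAlgebra.single m 1) := by
  simp [MonoidAlgebra.mapRingHom_single]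

variable (R K r) in
/-- A valuation ring of the generic function field centred at the generic point of the special fibre. -/
theorem exists_valuation :
    ∃ (V : ValuationSubring (FF K r)) (jV : GA R r →+* V)
      (emb : FF (IsLocalRing.ResidueField R) r →+* IsLocalRing.ResidueField V),
      (∀ b, (jV b : FF K r) = toGen r K b) ∧ ∀ b, emb (toSpec r b) = IsLocalRing.residue V (jV b) := by
  let q : GA R r →+* GA (IsLocalRing.ResidueField R) r := MonoidAlgebra.mapRingHom _ (IsLocalRing.residue R)
  have hq : Function.Surjective q := fun x ↦ by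
    induction x using MonoidAlgebra.induction_linear with
    | zero => exact ⟨0, map_zero q⟩
    | add f g hf hg =>
      obtain ⟨a, rfl⟩ := hf
      obtain ⟨b, rfl⟩ := hg
      exact ⟨a + b, map_add q a b⟩
    | single m c =>
      obtain ⟨a, rfl⟩ := Ideal.Quotient.mk_surjective c
      exact ⟨MonoidAlgebra.single m a, MonoidAlgebra.mapRingHom_single _ _ _⟩
  let p : Ideal (GA R r) := RingHom.ker q
  haveI : p.IsPrime := RingHom.ker_isPrime _
  let Bp := Localization.AtPrime p
  let lp : Bp →+* FF K r := IsLocalization.lift (M := p.primeCompl) (g := toGen r K) fun b ↦ by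
    refine IsUnit.mk0 _ fun h0 ↦ b.2 ?_
    rw [toGen_injective (h0.trans (map_zero (toGen r K)).symm)]
    exact zero_mem _
  obtain ⟨V, hV, hVloc⟩ := IsLocalRing.exists_factor_valuationRing lp
  haveI := hVloc
  let jV : GA R r →+* V := (lp.codRestrict V.toSubring hV).comp (algebraMap (GA R r) Bp)
  let resB : GA R r →+* IsLocalRing.ResidueField V := (IsLocalRing.residue V).comp jV
  have hker : RingHom.ker resB = p := by
    ext b
    refine RingHom.mem_ker.trans ((IsLocalRing.residue_eq_zero_iff _).trans ?_)
    rw [IsLocalRing.mem_maximalIdeal, mem_nonunits_iff]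
    refine Iff.trans (not_congr ⟨fun h ↦ (IsLocalization.AtPrime.isUnit_to_map_iff Bp p b).mp
      (IsLocalHom.map_nonunit (f := lp.codRestrict V.toSubring hV) _ h), fun h ↦
      ((IsLocalization.AtPrime.isUnit_to_map_iff Bp p b).mpr h).map (lp.codRestrict V.toSubring hV)⟩) ?_
    exact not_not
  let embk := (RingHom.liftOfSurjective q hq) ⟨resB, hker.ge⟩
  have hembk : ∀ b, embk (q b) = resB b := fun b ↦ RingHom.liftOfRightInverse_comp_apply _ _ _ _ b
  have hinj : Function.Injective embk := by
    rw [injective_iff_map_eq_zero]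
    intro z hz
    obtain ⟨b, rfl⟩ := hq z
    rw [hembk, ← RingHom.mem_ker, hker] at hz
    exact hz
  exact ⟨V, jV, IsFractionRing.lift hinj, fun b ↦ IsLocalization.lift_eq _ b,
    fun b ↦ (IsFractionRing.lift_algebraMap hinj _).trans (hembk b)⟩

/-- The twist of the function field by a character. -/
theorem exists_twist {k : Type u} [Field k] (c : Multiplicative (Fin r → ℤ) →* k) :
    ∃ σ : FF k r →ₐ[k] FF k r, ∀ m, σ (algebraMap (GA k r) _ (MonoidAlgebra.single m 1)) =
      algebraMap k _ (c m) * algebraMap (GA k r) _ (MonoidAlgebra.single m 1) := by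
  let σ₀ : (Multiplicative (Fin r → ℤ) →* k) → GA k r →ₐ[k] GA k r := fun c ↦
    MonoidAlgebra.lift k (GA k r) _ ((MonoidAlgebra.singleOneRingHom.toMonoidHom.comp c) * MonoidAlgebra.of k _)
  have hσ₀ : ∀ c m, σ₀ c (MonoidAlgebra.single m 1) = MonoidAlgebra.single m (c m) := fun c m ↦ by
    simp [σ₀, MonoidAlgebra.single_mul_single]
  have hinj : Function.Injective (σ₀ c) := by
    let ci : Multiplicative (Fin r → ℤ) →* k := c.comp (invMonoidHom : Multiplicative (Fin r → ℤ) →* Multiplicative (Fin r → ℤ))
    have h : (σ₀ ci).comp (σ₀ c) = AlgHom.id k (GA k r) := by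
      apply MonoidAlgebra.algHom_ext'
      case single_one_left => exact Algebra.ext_id _ _ _
      refine MonoidHom.ext fun m ↦ ?_
      show σ₀ ci (σ₀ c (MonoidAlgebra.single m 1)) = MonoidAlgebra.single m 1
      rw [hσ₀, show (MonoidAlgebra.single m (c m) : GA k r) = c m • MonoidAlgebra.single m 1 by simp,
        map_smul, hσ₀, MonoidAlgebra.smul_single', show ci m = c m⁻¹ from rfl, ← map_mul,
        mul_inv_cancel, map_one]
    exact Function.LeftInverse.injective (g := σ₀ ci) (fun z ↦ DFunLike.congr_fun h z)
  refine ⟨IsFractionRing.liftAlgHom (g := (IsScalarTower.toAlgHom k (GA k r) (FF k r)).comp (σ₀ c))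
    ((IsFractionRing.injective (GA k r) (FF k r)).comp hinj), fun m ↦ ?_⟩
  rw [IsFractionRing.liftAlgHom_apply, IsFractionRing.lift_algebraMap]
  show algebraMap (GA k r) (FF k r) (σ₀ c (MonoidAlgebra.single m 1)) = _
  rw [hσ₀, IsScalarTower.algebraMap_apply k (GA k r) (FF k r), ← map_mul]
  congr 1
  simp [MonoidAlgebra.single_mul_single]

/-- The function field is generated by the basic monomials. -/
theorem top_le_of_basisChar {k : Type u} [Field k] (F : IntermediateField k (FF k r))
    (h : ∀ i, algebraMap (GA k r) _ (MonoidAlgebra.single (basisChar i) 1) ∈ F) : F = ⊤ := by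
  refine eq_top_iff.mpr fun x _ ↦ ?_
  let χ : Multiplicative (Fin r → ℤ) →* FF k r :=
    (algebraMap (GA k r) (FF k r)).toMonoidHom.comp (MonoidAlgebra.of k _)
  have hmem : ∀ b : GA k r, algebraMap (GA k r) (FF k r) b ∈ F := fun b ↦ by
    induction b using MonoidAlgebra.induction_on with
    | of m => exact mem_of_basisChar F χ h m
    | add f g hf hg => rw [map_add]; exact add_mem hf hg
    | smul c f hf =>
      rw [Algebra.smul_def, map_mul, ← IsScalarTower.algebraMap_apply k (GA k r) (FF k r)]
      exact mul_mem (F.algebraMap_mem c) hf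
  obtain ⟨b, c, hc, rfl⟩ := IsFractionRing.div_surjective (A := GA k r) x
  exact div_mem (hmem b) (hmem c)

end Groth.Reductive.MonoTorus
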